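import Cfsg.Agent.Lib.ConwayType.Space
import Cfsg.Agent.Lib.ExtraspecialTwoIso
import Cfsg.Agent.Lib.LargeExtra.Types
import Cfsg.Agent.Lib.LargeExtra.Sections
import Cfsg.Agent.S5395
import Cfsg.Agent.Lib.HallJankoType.Setup
import Cfsg.Agent.Lib.SuzType.Setup

/-!
The setting of a group of Conway type: coordinates on the extraspecial group.
-/

set_option autoImplicit false
set_option linter.unusedSectionVars false

namespace CfsgLib.ConwayType

open QuadraticMap CfsgLib.WittExtension CfsgLib.ExtraTwo CfsgLargeExtra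
open CfsgLargeExtra.Types
open CfsgLib.SuzType (model_coord exists_coord exists_action)
open CfsgLib.HallJankoType (mem_cent conj_fix_iff)

variable {G : Type*} [Group G]

/-- `π` gives coordinates on `Q/⟨z⟩`, and `M` the action of `C(z)`. -/
structure ST (z : G) (Q : Subgroup G) (π : G → V) (M : G → O8) : Prop where
  es : ES Q z
  card : Nat.card Q = 512
  π_mul : ∀ a ∈ Q, ∀ b ∈ Q, π (a * b) = π a + π b
  π_ker : ∀ a ∈ Q, π a = 0 → a = 1 ∨ a = z
  π_surj : ∀ v : V, ∃ a ∈ Q, π a = v
  sq : ∀ a ∈ Q, (a * a = 1 ↔ qf (π a) = 0)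
  comm : ∀ a ∈ Q, ∀ b ∈ Q, (a * b = b * a ↔ polar qf (π a) (π b) = 0)
  M_mul : ∀ a b : G, a * z = z * a → b * z = z * b → M (a * b) = M a * M b
  M_act : ∀ c : G, c * z = z * c → ∀ a ∈ Q, π (c * a * c⁻¹) = (M c).1 (π a)
  M_ker : ∀ c : G, c * z = z * c → (M c = 1 ↔ c ∈ Q)
  M_mem : ∀ c : G, c * z = z * c → M c ∈ Om
  M_surj : ∀ g ∈ Om, ∃ c : G, c * z = z * c ∧ M c = g
  fused : ∃ g : G, g * z * g⁻¹ ∈ Q ∧ g * z * g⁻¹ ≠ z

/-- The model of plus type. -/
def plusCoord : (Fin 4 → ZMod 2 × ZMod 2) ≃+ V where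
  toFun v := Sum.elim (fun i => (v i).1) fun i => (v i).2
  invFun w := fun i => (w (.inl i), w (.inr i))
  left_inv v := rfl
  right_inv w := funext fun i => by rcases i with i | i <;> rfl
  map_add' u v := funext fun i => by rcases i with i | i <;> rfl

/-- The model of minus type. -/
def minusCoord : (Fin 4 → ZMod 2 × ZMod 2) ≃+ ((Fin 3 ⊕ Fin 3) ⊕ Fin 2 → F2) where
  toFun v := Sum.elim (Sum.elim (fun i => (v i.succ).1) fun i => (v i.succ).2) ![(v 0).1, (v 0).2]
  invFun w := Fin.cons (w (.inr 0), w (.inr 1)) fun i => (w (.inl (.inl i)), w (.inl (.inr i)))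
  left_inv v := funext fun i => by cases i using Fin.cases <;> simp
  right_inv w := funext fun i => by
    rcases i with (i | i) | i
    · simp
    · simp
    · fin_cases i <;> simp
  map_add' u v := funext fun i => by
    rcases i with (i | i) | i
    · simp
    · simp
    · fin_cases i <;> simp

theorem minusCoord_form : ∀ v : Fin 4 → ZMod 2 × ZMod 2, Cfsg.quadFormMinus 3 F2 1 1 (minusCoord v) = bil true v v := by
  decide +kernel

theorem plusCoord_form : ∀ v : Fin 4 → ZMod 2 × ZMod 2, Cfsg.quadFormPlus 4 F2 (plusCoord v) = bil false v v := by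
  decide +kernel

/-- The form of minus type. -/
def qm : QuadraticForm F2 ((Fin 3 ⊕ Fin 3) ⊕ Fin 2 → F2) :=
  QuadraticMap.ofPolar (Cfsg.quadFormMinus 3 F2 1 1)
    (fun a x => by
      rcases F2_cases a with rfl | rfl
      · simp [Cfsg.quadFormMinus]
      · simp)
    (fun x x' y => by simp only [CfsgLib.FiniteForms.polar_minus, add_dotProduct])
    (fun a x y => by simp only [CfsgLib.FiniteForms.polar_minus, smul_dotProduct, smul_eq_mul])

/-- The setting of the statements gives the data. -/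
theorem exists_ST [Finite G] (z : G) (hz : orderOf z = 2) (Q : Subgroup (Subgroup.centralizer ({z} : Set G))) [Q.Normal]
    (hF : Cfsg.generalizedFittingSubgroup (Subgroup.centralizer ({z} : Set G)) = Q)
    (hQ : Cfsg.IsExtraspecial 2 Q) (hcard : Nat.card Q = 2 ^ 9)
    (e : (Subgroup.centralizer ({z} : Set G)) ⧸ Q ≃* Cfsg.Omega (ZMod 2) (Cfsg.quadFormPlus 4 (ZMod 2)))
    (hnwc : ∃ g : G, (∃ hq : g * z * g⁻¹ ∈ Subgroup.centralizer ({z} : Set G),
      (⟨g * z * g⁻¹, hq⟩ : Subgroup.centralizer ({z} : Set G)) ∈ Q) ∧ g * z * g⁻¹ ≠ z) :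
    ∃ (π : G → V) (M : G → O8), ST z (Q.map (Subgroup.subtype _)) π M := by
  classical
  set Q' := Q.map (Subgroup.subtype (Subgroup.centralizer ({z} : Set G))) with hQ'def
  set E : ↥Q ≃* ↥Q' := Subgroup.equivMapOfInjective Q _ (Subgroup.subtype_injective (Subgroup.centralizer ({z} : Set G)))
  have hc : ∀ g, g ∈ Subgroup.center ↥Q ↔ E g ∈ Subgroup.center ↥Q' := fun g => by
    simp only [Subgroup.mem_center_iff, E.surjective.forall, ← map_mul, E.injective.eq_iff]
  obtain ⟨w, hw⟩ := ofExtraspecial hQ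
  obtain ⟨a, b, hab⟩ : ∃ a b : ↥Q', a * b ≠ b * a := by
    by_contra hall
    push Not at hall
    have htop : Subgroup.center ↥Q = ⊤ := eq_top_iff.mpr fun g _ =>
      (hc g).mpr (Subgroup.mem_center_iff.mpr fun k => hall _ _)
    have := hw.card_center
    rw [htop, Subgroup.card_top, hcard] at this
    norm_num at this
  have hQ'e : Cfsg.IsExtraspecial 2 ↥Q' := by
    refine isExtraspecial_of_ext2 (z := E w) (a := a) (b := b)
      ⟨fun e => hw.ne ((EmbeddingLike.map_eq_one_iff).mp e), fun g => ?_, fun g => ?_⟩ hab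
    · obtain ⟨g, rfl⟩ := E.surjective g
      rw [← hc, hw.center_iff, EmbeddingLike.map_eq_one_iff, E.injective.eq_iff]
    · obtain ⟨g, rfl⟩ := E.surjective g
      rw [← map_mul, EmbeddingLike.map_eq_one_iff, E.injective.eq_iff]
      exact hw.sq g
  have h : ES Q' z := (ES.of_fitting z hz rfl Q' (by rw [hF]) hQ'e).1
  have hcard' : Nat.card Q' = 2 ^ (2 * (3 + 1) + 1) := by
    rw [hQ'def, Subgroup.card_map_of_injective (Subgroup.subtype_injective _), hcard]
  have hqc : Nat.card ((Subgroup.centralizer ({z} : Set G)) ⧸ Q) = 174182400 :=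
    (Nat.card_congr e.toEquiv).trans card_Omega
  have hQmem : ∀ c : ↥(Subgroup.centralizer ({z} : Set G)), (c : G) ∈ Q' ↔ c ∈ Q := fun c =>
    ⟨fun ⟨d, hd, e⟩ => by rwa [show d = c from Subtype.ext e] at hd, fun hc => ⟨c, hc, rfl⟩⟩
  have himg : ∀ {W : Type} [AddCommGroup W] [Module F2 W] (q : QuadraticForm F2 W)
      (M : ↥(Subgroup.centralizer ({z} : Set G)) →* ↥(quadIso q)), (∀ c, M c = 1 ↔ (c : G) ∈ Q') →
      Nat.card M.range = 174182400 := by
    intro W _ _ q M hM
    have hk : M.ker = Q := SetLike.ext fun c => MonoidHom.mem_ker.trans ((hM c).trans (hQmem c))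
    rw [← Subgroup.index_ker, hk, Subgroup.index_eq_card, hqc]
  have hroot : rootCount ↥Q' = rootCount (Grp 3 false) ∨ rootCount ↥Q' = rootCount (Grp 3 true) := by
    obtain ⟨n, hn, hcases⟩ := invariants _ ↥Q' ⟨z, h.mem⟩ rfl h.toExt
    rw [hcard'] at hn
    have hn3 : n = 4 := by
      have := Nat.pow_right_injective (le_refl 2) hn
      omega
    subst hn3
    have ht := rootCount_eq (m := 3) (s := true)
    have hf := rootCount_eq (m := 3) (s := false)
    norm_num at ht hf
    rcases hcases with ⟨h1, -⟩ | ⟨-, h1, -⟩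
    · left
      norm_num at h1
      omega
    · right
      norm_num at h1
      omega
  haveI : Finite O8 := finite_O8
  rcases hroot with hroot | hroot
  · obtain ⟨π, h1, h2, h3, h4, h5, h6⟩ := exists_coord h qf plusCoord plusCoord_form hcard' hroot
    obtain ⟨M, hM1, hM2⟩ := exists_action h hQ'e qf π h1 h2 h3 h4 h6
    have hR : M.range = Om := by
      have hr := himg qf M hM2
      have h5' : M.range.index = 2 := by
        have := M.range.card_mul_index
        rw [hr, card_O8] at this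
        omega
      haveI := Subgroup.normal_of_index_eq_two h5'
      symm
      refine Subgroup.eq_of_le_of_card_ge ?_ (by rw [hr, card_Om])
      rw [← Subgroup.Normal.quotient_commutative_iff_commutator_le]
      haveI : Fact (Nat.Prime 2) := ⟨Nat.prime_two⟩
      haveI : IsCyclic (O8 ⧸ M.range) := isCyclic_of_prime_card (p := 2) (by rw [← Subgroup.index_eq_card, h5'])
      exact ⟨⟨fun a b => IsCyclic.commGroup.mul_comm a b⟩⟩
    refine ⟨π, fun g => if hg : g * z = z * g then M ⟨g, mem_cent.mpr hg⟩ else 1, h, hcard', h1, h2, h3, h4, h5,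
      ?_, ?_, ?_, ?_, ?_, ?_⟩
    · intro a b ha hb
      rw [dif_pos ha, dif_pos hb, dif_pos (show a * b * z = z * (a * b) from Commute.mul_left ha hb)]
      exact map_mul M ⟨a, mem_cent.mpr ha⟩ ⟨b, mem_cent.mpr hb⟩
    · intro c hc a ha
      rw [dif_pos hc]
      exact hM1 ⟨c, mem_cent.mpr hc⟩ a ha
    · intro c hc
      rw [dif_pos hc]
      exact hM2 ⟨c, mem_cent.mpr hc⟩
    · intro c hc
      rw [dif_pos hc, ← hR]
      exact ⟨_, rfl⟩
    · intro g hg
      obtain ⟨⟨c, hc⟩, rfl⟩ : g ∈ M.range := hR.symm ▸ hg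
      exact ⟨c, mem_cent.mp hc, dif_pos (mem_cent.mp hc)⟩
    · obtain ⟨g, ⟨hq, hmem⟩, hne⟩ := hnwc
      exact ⟨g, ⟨_, hmem, rfl⟩, hne⟩
  · exfalso
    obtain ⟨π, h1, h2, h3, h4, -, h6⟩ := exists_coord h qm minusCoord minusCoord_form hcard' hroot
    obtain ⟨M, hM1, hM2⟩ := exists_action h hQ'e qm π h1 h2 h3 h4 h6
    have hr := himg qm M hM2
    have hp : Nat.card ↥(quadIso qm) = 394813440 := by
      rw [← CfsgLib.OrthOrder.card_isometryGroup qm (Cfsg.quadFormMinus 3 F2 1 1) (LinearEquiv.refl F2 _) fun w => rfl,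
        card_O8minus]
    have hdvd := Subgroup.card_subgroup_dvd_card M.range
    rw [hr, hp] at hdvd
    norm_num at hdvd

end CfsgLib.ConwayType
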