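import Cfsg.Agent.Lib.ConwayType.Reduce

/-!
Groups of Conway type: at most three classes of involutions.
-/

set_option autoImplicit false
set_option linter.unusedSectionVars false
set_option maxRecDepth 20000

namespace CfsgLib.ConwayType

open QuadraticMap CfsgLargeExtra
open CfsgLib.HallJankoType (mem_cent conj_fix_iff)

universe u

variable {G : Type u} [Group G] [Finite G] {z x s : G} {Q Q' : Subgroup G} {π π' : G → V} {M M' : G → O8}

namespace Pr

variable (P : Pr z x Q Q' π π' M M')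
include P

/-- An involution acting radically at a point is of one of the three types. -/
theorem rad_cases (hs : s ∈ Q) (hsp : bf (π s) (π x) = 1) {t t' : G} (ht : P.Typ s t) (ht' : P.Tri s t') {y x1 : G}
    (hr : P.h.Rad y x1) (hyy : y * y = 1) (hy1 : y ≠ 1) : IsConj z y ∨ IsConj t y ∨ IsConj t' y := by
  obtain ⟨hyz, hx1, hc1, hperp⟩ := hr
  obtain ⟨c, hcz, hcx⟩ := P.h.trans_S hx1 P.memS
  have hyc : IsConj (c * y * c⁻¹) y := (isConj_iff.mpr ⟨c, rfl⟩ : IsConj y (c * y * c⁻¹)).symm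
  have hz' : c * y * c⁻¹ * z = z * (c * y * c⁻¹) :=
    Commute.mul_left (Commute.mul_left hcz hyz) (Commute.inv_left hcz)
  have hx' : c * y * c⁻¹ * x = x * (c * y * c⁻¹) := by
    rw [← hcx, show c * y * c⁻¹ * (c * x1 * c⁻¹) = c * (y * x1) * c⁻¹ by group, hc1]; group
  have hπx : π x = (M c).1 (π x1) := by rw [← hcx, P.h.M_act c hcz x1 hx1.1]
  obtain ⟨a, b, ha, hax, hb, hbz, he⟩ := P.decompose hs hsp hz' hx' fun v hv => by
    obtain ⟨w, rfl⟩ := (M c).1.surjective v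
    rw [hπx] at hv ⊢
    rw [bf_map] at hv
    have e := (hperp w hv).map (M c)
    rw [P.h.M_mul _ _ (Commute.mul_left hcz hyz) (Commute.inv_left hcz), P.h.M_mul _ _ hcz hyz, P.h.M_inv hcz]
    show Eqp _ _ ((M c).1 ((M y).1 ((M c).1.symm ((M c).1 w))))
    rw [LinearEquiv.symm_apply_apply]
    exact e
  rw [he] at hyc
  rcases P.invol_cases hs hsp ha hax hb hbz
      (by rw [← he, show c * y * c⁻¹ * (c * y * c⁻¹) = c * (y * y) * c⁻¹ by group, hyy, mul_one, mul_inv_cancel])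
      (by rw [← he]; exact fun e => hy1 (conj_eq_one_iff.mp e)) with e | e | e
  · exact Or.inl (e.trans hyc)
  · obtain ⟨k, -, -, hk⟩ := P.typ_conj hs hsp ht e
    exact Or.inr (Or.inl ((isConj_iff.mpr ⟨k, hk⟩).trans hyc))
  · obtain ⟨k, -, -, hk⟩ := P.tri_conj hs hsp ht' e
    exact Or.inr (Or.inr ((isConj_iff.mpr ⟨k, hk⟩).trans hyc))

/-- At most three classes of involutions. -/
theorem classify (hs : s ∈ Q) (hsp : bf (π s) (π x) = 1) {t t' : G} (ht : P.Typ s t) (ht' : P.Tri s t') {y : G}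
    (hyy : y * y = 1) (hy1 : y ≠ 1) : IsConj z y ∨ IsConj t y ∨ IsConj t' y := by
  obtain ⟨g, hgz⟩ := P.h.exists_conj_mem_C hyy
  have hc : IsConj (g * y * g⁻¹) y := (isConj_iff.mpr ⟨g, rfl⟩ : IsConj y (g * y * g⁻¹)).symm
  have hy2 : g * y * g⁻¹ * (g * y * g⁻¹) = 1 := by
    rw [show g * y * g⁻¹ * (g * y * g⁻¹) = g * (y * y) * g⁻¹ by group, hyy, mul_one, mul_inv_cancel]
  have hy3 : g * y * g⁻¹ ≠ 1 := fun e => hy1 (conj_eq_one_iff.mp e)
  generalize g * y * g⁻¹ = y0 at hgz hc hy2 hy3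
  by_cases hQ : y0 ∈ Q
  · exact Or.inl ((P.h.isConj_Q hQ hy2 hy3).trans hc)
  obtain ⟨y', x', hcy, -, hyy', hr⟩ := P.h.exists_rad hgz hy2 hQ
  have hy' : IsConj y' y := hcy.symm.trans hc
  rcases P.rad_cases hs hsp ht ht' hr hyy' (fun e => hy3 (by
      obtain ⟨k, hk⟩ := isConj_iff.mp hcy
      exact conj_eq_one_iff.mp (hk.trans e))) with e | e | e
  · exact Or.inl (e.trans hy')
  · exact Or.inr (Or.inl (e.trans hy'))
  · exact Or.inr (Or.inr (e.trans hy'))

end Pr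

end CfsgLib.ConwayType
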