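import Cfsg.Agent.Lib.ConwayType.Classify

/-!
Groups of Conway type: the second and third kind of involutions are not conjugate to the central one.
-/

set_option autoImplicit false
set_option linter.unusedSectionVars false
set_option maxRecDepth 20000
set_option synthInstance.maxSize 2048
set_option synthInstance.maxHeartbeats 200000

namespace CfsgLib.ConwayType

open QuadraticMap Module CfsgLargeExtra
open CfsgLib.HallJankoType (mem_cent conj_fix_iff)

universe u

variable {G : Type u} [Group G] [Finite G] {z x s : G} {Q Q' : Subgroup G} {π π' : G → V} {M M' : G → O8}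

/-- The square of a coordinate vector on the span. -/
def gq (β : F2) (v : F2 × F2 × F2) : F2 := β * (v.2.1 + v.2.2 + v.2.1 * v.2.2)

/-- The pairing of coordinate vectors on the span. -/
def gb (β : F2) (v w : F2 × F2 × F2) : F2 := β * (v.2.1 * w.2.2 + v.2.2 * w.2.1)

theorem dep_two : ∀ a b c : F2 × F2, ∃ i j k : F2,
    ¬ (i = 0 ∧ j = 0 ∧ k = 0) ∧ i * a.1 + j * b.1 + k * c.1 = 0 ∧ i * a.2 + j * b.2 + k * c.2 = 0 := by
  decide +kernel

theorem count_fixer : ∀ β : F2, ((Finset.univ : Finset ((F2 × F2 × F2) × (F2 × F2 × F2) × (F2 × F2 × F2))).filter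
    fun n => gq β n.1 + n.1.1 = 0 ∧ gq β n.2.1 + n.2.1.2.1 = 0 ∧ gq β n.2.2 + n.2.2.2.2 = 0 ∧
      gb β n.1 n.2.1 + n.1.2.1 + n.2.1.1 = 0 ∧ gb β n.1 n.2.2 + n.1.2.2 + n.2.2.1 = 0 ∧
      gb β n.2.1 n.2.2 + n.2.1.2.2 + n.2.2.2.1 = 0 ∧
      β * n.2.1.1 = β * n.1.2.1 ∧ β * n.2.1.2.1 = 0 ∧ β * n.2.1.2.2 = 0).card ≤ 15 := by
  decide +kernel

namespace Pr

variable (P : Pr z x Q Q' π π' M M')
include P

omit [Finite G] in
/-- A configuration with the given value of the form. -/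
def Cfg (P : Pr z x Q Q' π π' M M') (β : F2) (s y : G) : Prop :=
  ∃ a b, a ∈ Q ∧ a * x = x * a ∧ b ∈ Q' ∧ b * z = z * b ∧ y = a * b ∧
    qf (π a) = β ∧ qf (P.dl s b) = β ∧ bf (π a) (P.dl s b) = β ∧ Ind (π x) (π a) (P.dl s b)

theorem typ_cfg (hs : s ∈ Q) {t : G} (h : P.Typ s t) : P.Cfg 1 s t := by
  obtain ⟨a, b, ha, hax, hb, hbz, e, qa, qb, hab⟩ := h
  exact ⟨a, b, ha, hax, hb, hbz, e, qa, qb, hab, P.typ_ind hs ha hax hb hbz hab⟩

theorem tri_cfg {t : G} (h : P.Tri s t) : P.Cfg 0 s t := by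
  obtain ⟨a, b, ha, hax, hb, hbz, e, qa, qb, hab, hI⟩ := h
  exact ⟨a, b, ha, hax, hb, hbz, e, qa, qb, hab, hI⟩

theorem M_ab {a b : G} (ha : a ∈ Q) (hbz : b * z = z * b) : M (a * b) = M b := by
  rw [P.h.M_mul _ _ (P.h.es.comm a ha) hbz, P.h.M_Q ha, one_mul]

theorem cfg_props (hs : s ∈ Q) (hsp : bf (π s) (π x) = 1) {β : F2} {t : G} (ht : P.Cfg β s t) :
    t * z = z * t ∧ t * x = x * t ∧ t * t = 1 ∧ t ∉ Q := by
  obtain ⟨a, b, ha, hax, hb, hbz, rfl, qa, qb, hab, hI⟩ := ht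
  refine ⟨Commute.mul_left (P.h.es.comm a ha) hbz, Commute.mul_left hax (P.h'.es.comm b hb), ?_, fun hQ => ?_⟩
  · rw [P.sq_ab ha hax hb hbz, P.comm_eq hs hsp ha hax hb hbz, hab]
    rcases F2_cases β with rfl | rfl
    · rw [if_pos rfl, (P.h.sq a ha).mpr qa, (P.sq_B hs hsp hb hbz).mpr qb, mul_one, one_mul]
    · rw [if_neg one_ne_zero,
        (P.h.es.sq a ha).resolve_left fun e => by rw [(P.h.sq a ha).mp e] at qa; exact zero_ne_one qa,
        (P.h'.es.sq b hb).resolve_left fun e => by rw [(P.sq_B hs hsp hb hbz).mp e] at qb; exact zero_ne_one qb,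
        mul_assoc z x z, ← P.zx, ← mul_assoc, P.h.zz, one_mul, P.xx]
  · have h1 := P.h.M_Q hQ
    rw [P.M_ab ha hbz] at h1
    have h2 := P.dl_inj hs hsp hb hbz
    have hd : P.dl s b = 0 := by
      rw [P.dl_eq hs hbz, h1]; exact V_add_self _
    exact one_ne_zero (hI 0 0 1 (by rw [hd]; simp)).2.2

/-- The vectors of elements of `Q` commuting with a configuration. -/
theorem cent_cfg (hs : s ∈ Q) (hsp : bf (π s) (π x) = 1) {a b : G} (ha : a ∈ Q) (hax : a * x = x * a) (hb : b ∈ Q')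
    (hbz : b * z = z * b) (hI : Ind (π x) (π a) (P.dl s b)) {q : G} (hq : q ∈ Q) :
    q * (a * b) = a * b * q ↔ bf (π q) (π x) = 0 ∧ bf (π q) (π a) = 0 ∧ bf (π q) (P.dl s b) = 0 := by
  constructor
  · intro he
    have htz : a * b * z = z * (a * b) := Commute.mul_left (P.h.es.comm a ha) hbz
    have h1 : (M b).1 (π q) = π q := by
      rw [← P.M_ab ha hbz, ← P.h.M_act _ htz q hq, conj_fix_iff.mpr he.symm]
    rw [P.M_full hs hsp hb hbz, add_assoc, add_eq_left] at h1
    obtain ⟨e1, -, e3⟩ := hI (bf (π q) (P.dl s b) + bf (π q) (π x) * qf (P.dl s b)) 0 (bf (π q) (π x)) (by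
      rw [zero_smul, add_zero]; exact h1)
    rw [e3, zero_mul, add_zero] at e1
    refine ⟨e3, ?_, e1⟩
    have hqb : q * b = b * q := by
      have := P.comm_eq hs hsp hq ((P.comm_x hq).mpr e3) hb hbz
      rw [if_pos e1] at this
      exact mul_inv_eq_one.mp (by rw [← this]; group)
    refine (P.h.comm q hq a ha).mp (mul_right_cancel (b := b) ?_)
    calc q * a * b = a * b * q := by rw [mul_assoc]; exact he
      _ = a * (b * q) := by group
      _ = a * q * b := by rw [← hqb]; group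
  · rintro ⟨h1, h2, h3⟩
    have hqb : q * b = b * q := by
      have := P.comm_eq hs hsp hq ((P.comm_x hq).mpr h1) hb hbz
      rw [if_pos h3] at this
      exact mul_inv_eq_one.mp (by rw [← this]; group)
    exact (Commute.mul_right ((P.h.comm q hq a ha).mpr h2) hqb : Commute q (a * b))

/-- A conjugate of `z` of such shape meets `Q` trivially with its extraspecial group. -/
theorem inter_trivial (hs : s ∈ Q) (hsp : bf (π s) (π x) = 1) {β : F2} {t g : G} (ht : P.Cfg β s t)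
    (hg : g * z * g⁻¹ = t) {v : G} (hv : v ∈ Q) (hv' : v ∈ CfsgLargeExtra.cj g Q) : v = 1 := by
  obtain ⟨htz, -, htt, htQ⟩ := P.cfg_props hs hsp ht
  obtain ⟨a, b, ha, hax, hb, hbz, hte, qa, qb, hab, hI⟩ := ht
  have hE := P.h.conjBy g
  by_contra h1
  have hvv : v * v = 1 := by
    rcases P.h.es.sq v hv with e | e
    · exact e
    · rcases hE.es.sq v hv' with e' | e'
      · exact e'
      · exact absurd (e'.symm.trans e) (fun e'' => htQ (by rw [← hg, e'']; exact P.h.es.mem))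
  have hvz : v ≠ z := fun e => htQ (by rw [← hg]; exact (P.h.symm_iff (g := g)).mpr (e ▸ hv'))
  obtain ⟨k, hk, P1⟩ := P.h.pr_of (P.h.mem_S_of hv hvv h1 hvz)
  have htk : t ∈ CfsgLargeExtra.cj k Q := by
    have e : k * g⁻¹ * (g * z * g⁻¹) * (k * g⁻¹)⁻¹ = v := by rw [← hk]; group
    have := hE.symm_mem (g := k * g⁻¹) (by rw [e]; exact hv')
    rw [CfsgLargeExtra.cj_cj, inv_mul_cancel_right, hg] at this
    exact this
  obtain ⟨s1, hs1, hsp1, -⟩ := P1.exists_s
  have hcen : ∀ w, bf (π v) w = 0 → bf (P1.dl s1 t) w = 0 →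
      bf (π x) w = 0 ∧ bf (π a) w = 0 ∧ bf (P.dl s b) w = 0 := by
    intro w w1 w2
    obtain ⟨q, hq, rfl⟩ := P.h.π_surj w
    have hqt : q * t = t * q := by
      have := P1.comm_eq hs1 hsp1 hq ((P1.comm_x hq).mpr (by rw [bf_comm]; exact w1)) htk htz
      rw [bf_comm, w2, if_pos rfl] at this
      exact mul_inv_eq_one.mp (by rw [← this]; group)
    rw [hte] at hqt
    obtain ⟨r1, r2, r3⟩ := (P.cent_cfg hs hsp ha hax hb hbz hI hq).mp hqt
    exact ⟨by rw [bf_comm]; exact r1, by rw [bf_comm]; exact r2, by rw [bf_comm]; exact r3⟩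
  have hspan : ∀ u, (∀ w, bf (π v) w = 0 → bf (P1.dl s1 t) w = 0 → bf u w = 0) →
      ∃ c : F2 × F2, u = c.1 • π v + c.2 • P1.dl s1 t := fun u hu => by
    obtain ⟨c, hc⟩ := mem_span_of_perp_all ![π v, P1.dl s1 t] (v := u) fun w hw => hu w (hw 0) (hw 1)
    rw [Fin.sum_univ_two] at hc
    exact ⟨(c 0, c 1), hc⟩
  obtain ⟨c1, h1'⟩ := hspan (π x) fun w r r' => (hcen w r r').1
  obtain ⟨c2, h2'⟩ := hspan (π a) fun w r r' => (hcen w r r').2.1
  obtain ⟨c3, h3'⟩ := hspan (P.dl s b) fun w r r' => (hcen w r r').2.2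
  obtain ⟨i, j, l, hne, e1, e2⟩ := dep_two c1 c2 c3
  refine hne (hI i j l ?_)
  rw [h1', h2', h3']
  simp only [smul_add, smul_smul]
  rw [show (i * c1.1) • π v + (i * c1.2) • P1.dl s1 t + ((j * c2.1) • π v + (j * c2.2) • P1.dl s1 t) +
      ((l * c3.1) • π v + (l * c3.2) • P1.dl s1 t) = (i * c1.1 + j * c2.1 + l * c3.1) • π v +
      (i * c1.2 + j * c2.2 + l * c3.2) • P1.dl s1 t by simp only [add_smul]; abel, e1, e2, zero_smul, zero_smul,
    add_zero]

omit P

end Pr

/-- An involution of `C(z)` centralises at least sixteen elements of `Q`. -/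
theorem ST.card_cent (h : ST z Q π M) {y : G} (hyz : y * z = z * y) (hyy : y * y = 1) :
    16 ≤ Nat.card {q : G // q ∈ Q ∧ q * y = y * q} := by
  classical
  have h2 : M y * M y = 1 := by rw [← h.M_mul _ _ hyz hyz, hyy, h.M_one]
  choose r hrQ hr using h.π_surj
  have hfix : 16 ≤ Nat.card ↥(LinearMap.ker (dsp (M y))) := by
    rw [Module.natCard_eq_pow_finrank (K := F2), Nat.card_zmod]
    have h3 := dsp_rank_le h2
    have h4 := LinearMap.finrank_range_add_finrank_ker (dsp (M y))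
    rw [finrank_V] at h4
    calc 16 = 2 ^ 4 := by norm_num
      _ ≤ _ := Nat.pow_le_pow_right (by norm_num) (by omega)
  have hker : ∀ v, v ∈ LinearMap.ker (dsp (M y)) → y * r v * y⁻¹ = r v ∨ y * r v * y⁻¹ = r v * z := fun v hv =>
    h.π_eq (hrQ v) (h.nor_mem hyz (hrQ v)) (by
      rw [h.M_act y hyz _ (hrQ v), hr, map_eq_add_dsp, LinearMap.mem_ker.mp hv, add_zero])
  let T := {v : ↥(LinearMap.ker (dsp (M y))) // y * r v.1 * y⁻¹ = r v.1}
  have hT : Nat.card (T × Bool) ≤ Nat.card {q : G // q ∈ Q ∧ q * y = y * q} := by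
    refine Nat.card_le_card_of_injective (fun w => ⟨r w.1.1.1 * (if w.2 then z else 1),
      mul_mem (hrQ _) (by split_ifs; exacts [h.es.mem, one_mem _]), ?_⟩) ?_
    · have hc : Commute (r w.1.1.1) y := (conj_fix_iff.mp w.1.2).symm
      have hc2 : Commute (if w.2 then z else 1) y := by
        split_ifs
        exacts [hyz.symm, Commute.one_left y]
      exact (hc.mul_left hc2).eq
    · intro w w' e
      have e' : r w.1.1.1 * (if w.2 then z else 1) = r w'.1.1.1 * (if w'.2 then z else 1) := congrArg Subtype.val e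
      have hπ : ∀ (v : V) (c : Bool), π (r v * (if c then z else 1)) = v := fun v c => by
        cases c
        · simp [hr]
        · simp [h.π_mul_z (hrQ v), hr]
      have hv : w.1.1.1 = w'.1.1.1 := by
        rw [← hπ w.1.1.1 w.2, e', hπ]
      obtain ⟨⟨⟨v, _⟩, _⟩, c⟩ := w
      obtain ⟨⟨⟨v', _⟩, _⟩, c'⟩ := w'
      change v = v' at hv
      subst hv
      cases c <;> cases c' <;> simp at e' ⊢
      · exact h.es.ne e'
      · exact h.es.ne e'
  by_cases hall : ∀ v : ↥(LinearMap.ker (dsp (M y))), y * r v.1 * y⁻¹ = r v.1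
  · have : Nat.card ↥(LinearMap.ker (dsp (M y))) ≤ Nat.card T :=
      Nat.card_le_card_of_injective (fun v => ⟨v, hall v⟩) fun v v' e => congrArg Subtype.val e
    rw [Nat.card_prod, Nat.card_eq_fintype_card (α := Bool), Fintype.card_bool] at hT
    omega
  push Not at hall
  obtain ⟨v0, hv0⟩ := hall
  have hadd : ∀ v : ↥(LinearMap.ker (dsp (M y))), y * r v.1 * y⁻¹ ≠ r v.1 →
      y * r (v + v0).1 * y⁻¹ = r (v + v0).1 := by
    intro v hv
    have ev := (hker v.1 v.2).resolve_left hv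
    have e0 := (hker v0.1 v0.2).resolve_left hv0
    have hprod : y * (r v.1 * r v0.1) * y⁻¹ = r v.1 * r v0.1 := by
      rw [show y * (r v.1 * r v0.1) * y⁻¹ = y * r v.1 * y⁻¹ * (y * r v0.1 * y⁻¹) by group, ev, e0,
        show r v.1 * z * (r v0.1 * z) = r v.1 * (z * r v0.1) * z by group, ← h.es.comm _ (hrQ v0.1),
        mul_assoc, mul_assoc (r v0.1), h.zz, mul_one]
    have hπ : π (r v.1 * r v0.1) = π (r (v + v0).1) := by
      rw [h.π_mul _ (hrQ _) _ (hrQ _), hr, hr, hr, Submodule.coe_add]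
    rcases h.π_eq (mul_mem (hrQ _) (hrQ _)) (hrQ _) hπ with e | e <;> rw [e]
    · exact hprod
    · rw [show y * (r v.1 * r v0.1 * z) * y⁻¹ = y * (r v.1 * r v0.1) * y⁻¹ * (y * z * y⁻¹) by group, hprod,
        conj_fix_iff.mpr hyz]
  have : Nat.card ↥(LinearMap.ker (dsp (M y))) ≤ Nat.card (T × Bool) := by
    refine Nat.card_le_card_of_injective (fun v => if hv : y * r v.1 * y⁻¹ = r v.1 then (⟨v, hv⟩, false)
      else (⟨v + v0, hadd v hv⟩, true)) fun v v' e => ?_
    simp only at e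
    split_ifs at e with e1 e2 e2 <;> simp only [Prod.mk.injEq, Bool.false_eq_true, Bool.true_eq_false, and_false,
      and_true, Subtype.mk.injEq] at e
    · exact congrArg Subtype.val e
    · exact add_right_cancel (congrArg Subtype.val e)
  omega

namespace Pr

variable (P : Pr z x Q Q' π π' M M')
include P

/-- The configurations are not conjugate to the central involution. -/
theorem not_conj (hs : s ∈ Q) (hsp : bf (π s) (π x) = 1) {β : F2} {t : G} (ht : P.Cfg β s t) : ¬ IsConj z t := by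
  classical
  intro hc
  obtain ⟨g, hg⟩ := isConj_iff.mp hc
  obtain ⟨htz, htx, htt, htQ⟩ := P.cfg_props hs hsp ht
  have hE := P.h.conjBy g
  set y := g⁻¹ * z * g with hy
  have hyz : y * z = z * y := by
    calc y * z = g⁻¹ * (z * t) * g := by rw [← hg, hy]; group
      _ = g⁻¹ * (t * z) * g := by rw [htz]
      _ = z * y := by rw [← hg, hy]; group
  have hyy : y * y = 1 := by rw [hy, show g⁻¹ * z * g * (g⁻¹ * z * g) = g⁻¹ * (z * z) * g by group, P.h.zz]; group
  have hC := P.h.card_cent hyz hyy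
  set K := {q : G // q ∈ Q ∧ q * y = y * q} with hK
  have hKp : ∀ q : K, g * q.1 * g⁻¹ ∈ CfsgLargeExtra.cj g Q ∧ g * q.1 * g⁻¹ * z = z * (g * q.1 * g⁻¹) ∧
      g * q.1 * g⁻¹ * t = t * (g * q.1 * g⁻¹) := by
    intro q
    refine ⟨conj_mem_cj q.2.1, ?_, ?_⟩
    · have hgy : g * y * g⁻¹ = z := by rw [hy]; group
      calc g * q.1 * g⁻¹ * z = g * q.1 * g⁻¹ * (g * y * g⁻¹) := by rw [hgy]
        _ = g * (q.1 * y) * g⁻¹ := by group
        _ = g * (y * q.1) * g⁻¹ := by rw [q.2.2]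
        _ = g * y * g⁻¹ * (g * q.1 * g⁻¹) := by group
        _ = z * (g * q.1 * g⁻¹) := by rw [hgy]
    · rw [← hg, show g * q.1 * g⁻¹ * (g * z * g⁻¹) = g * (q.1 * z) * g⁻¹ by group, P.h.es.comm _ q.2.1]; group
  have ht' := ht
  obtain ⟨a, b, ha, hax, hb, hbz, hte, qa, qb, hab, hI⟩ := ht
  have hα : bf (π x) (π a) = 0 := by rw [bf_comm]; exact (P.comm_x ha).mp hax
  have hδ : bf (π x) (P.dl s b) = 0 := by rw [bf_comm]; exact P.dl_perp hs hb hbz
  have hW : ∀ q : K, ∀ w, bf w (π x) = 0 → bf w (π a) = 0 → bf w (P.dl s b) = 0 →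
      (M (g * q.1 * g⁻¹)).1 w = w := by
    intro q w h1 h2 h3
    obtain ⟨l, hl, rfl⟩ := P.h.π_surj w
    obtain ⟨hk1, hk2, hk3⟩ := hKp q
    have hlt : l * t = t * l := by
      rw [hte]; exact (P.cent_cfg hs hsp ha hax hb hbz hI hl).mpr ⟨h1, h2, h3⟩
    set k := g * q.1 * g⁻¹
    have h4 : k * l * k⁻¹ * l⁻¹ ∈ Q := mul_mem (P.h.nor_mem hk2 hl) (inv_mem hl)
    have h5 : k * l * k⁻¹ * l⁻¹ ∈ CfsgLargeExtra.cj g Q := by
      rw [show k * l * k⁻¹ * l⁻¹ = k * (l * k⁻¹ * l⁻¹) by group]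
      refine mul_mem hk1 (hE.nor_mem ?_ (inv_mem hk1))
      rw [hg]; exact hlt
    have h6 := P.inter_trivial hs hsp ht' hg h4 h5
    rw [← P.h.M_act k hk2 l hl, mul_inv_eq_one.mp h6]
  -- dual vectors
  obtain ⟨σa, wa1, wa2, wa3⟩ := hI.exists_dual2 1 0
  obtain ⟨σd, wd1, wd2, wd3⟩ := hI.exists_dual2 0 1
  obtain ⟨σp, wp1, wp2, wp3⟩ : ∃ w, bf w (π x) = 1 ∧ bf w (π a) = 0 ∧ bf w (P.dl s b) = 0 :=
    ⟨π s + bf (π s) (π a) • σa + bf (π s) (P.dl s b) • σd, by simp [bf_add_left, bf_smul_left, hsp, wa1, wd1],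
      by simp [bf_add_left, bf_smul_left, wa2, wd2, F2_add_self],
      by simp [bf_add_left, bf_smul_left, wa3, wd3, F2_add_self]⟩
  have hdec : ∀ v : V, bf (v + bf v (π x) • σp + bf v (π a) • σa + bf v (P.dl s b) • σd) (π x) = 0 ∧
      bf (v + bf v (π x) • σp + bf v (π a) • σa + bf v (P.dl s b) • σd) (π a) = 0 ∧
      bf (v + bf v (π x) • σp + bf v (π a) • σa + bf v (P.dl s b) • σd) (P.dl s b) = 0 := fun v => by
    simp [bf_add_left, bf_smul_left, wp1, wp2, wp3, wa1, wa2, wa3, wd1, wd2, wd3, F2_add_self]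
  let co : V → F2 × F2 × F2 := fun w => (bf σp w, bf σa w, bf σd w)
  let cv : F2 × F2 × F2 → V := fun c => c.1 • π x + c.2.1 • π a + c.2.2 • P.dl s b
  let nv : K → V → V := fun q v => (M (g * q.1 * g⁻¹)).1 v + v
  have hspan : ∀ q v, cv (co (nv q v)) = nv q v := by
    intro q v
    obtain ⟨c, hc⟩ := mem_span_of_perp_all ![π x, π a, P.dl s b] (v := nv q v) fun w hw => by
      have h1 : bf w (π x) = 0 := by rw [bf_comm]; exact hw 0
      have h2 : bf w (π a) = 0 := by rw [bf_comm]; exact hw 1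
      have h3 : bf w (P.dl s b) = 0 := by rw [bf_comm]; exact hw 2
      show bf ((M (g * q.1 * g⁻¹)).1 v + v) w = 0
      rw [bf_add_left]
      conv_lhs => arg 1; rw [← hW q w h1 h2 h3, bf_map]
      exact F2_add_self _
    rw [Fin.sum_univ_three] at hc
    simp only [Matrix.cons_val_zero, Matrix.cons_val_one, Matrix.cons_val_two, Matrix.tail_cons,
      Matrix.head_cons] at hc
    rw [hc]
    simp [cv, co, bf_add_right, bf_smul_right, bf_comm σp, bf_comm σa, bf_comm σd,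
      show bf (π x) σp = 1 by rw [bf_comm]; exact wp1, show bf (π a) σp = 0 by rw [bf_comm]; exact wp2,
      show bf (P.dl s b) σp = 0 by rw [bf_comm]; exact wp3, show bf (π x) σa = 0 by rw [bf_comm]; exact wa1,
      show bf (π a) σa = 1 by rw [bf_comm]; exact wa2, show bf (P.dl s b) σa = 0 by rw [bf_comm]; exact wa3,
      show bf (π x) σd = 0 by rw [bf_comm]; exact wd1, show bf (π a) σd = 0 by rw [bf_comm]; exact wd2,
      show bf (P.dl s b) σd = 1 by rw [bf_comm]; exact wd3]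
  have gram_q : ∀ c, qf (cv c) = gq β c := by
    intro c
    simp only [cv, gq, qf_add, qf_smul, bf_add_left, bf_smul_left, bf_smul_right, P.p_q, qa, qb, hα, hδ, hab]
    ring
  have gram_b : ∀ c d, bf (cv c) (cv d) = gb β c d := by
    intro c d
    simp only [cv, gb, bf_add_left, bf_add_right, bf_smul_left, bf_smul_right, bf_self, hα, hδ, hab,
      bf_comm (π a) (π x), bf_comm (P.dl s b) (π x), bf_comm (P.dl s b) (π a)]
    ring
  have himg : ∀ (q : K) v, (M (g * q.1 * g⁻¹)).1 v = v + cv (co (nv q v)) := fun q v => by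
    rw [hspan]
    show _ = v + ((M (g * q.1 * g⁻¹)).1 v + v)
    rw [add_comm ((M (g * q.1 * g⁻¹)).1 v) v, ← add_assoc, V_add_self, zero_add]
  have hqn : ∀ q v, qf (nv q v) + bf v (nv q v) = 0 := by
    intro q v
    have h1 := (M (g * q.1 * g⁻¹)).2 v
    rw [himg, hspan, qf_add, add_assoc, add_eq_left] at h1
    exact h1
  have hbn : ∀ q v w, bf (nv q v) (nv q w) + bf v (nv q w) + bf (nv q v) w = 0 := by
    intro q v w
    have h1 := bf_map (M (g * q.1 * g⁻¹)) v w
    rw [himg q v, himg q w, hspan, hspan] at h1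
    generalize nv q v = n at h1 ⊢
    generalize nv q w = m at h1 ⊢
    rw [bf_add_left, bf_add_right, bf_add_right] at h1
    linear_combination h1
  let F : K → (F2 × F2 × F2) × (F2 × F2 × F2) × (F2 × F2 × F2) := fun q =>
    (co (nv q σp), co (nv q σa), co (nv q σd))
  have hMt : ∀ v, (M t).1 v = v + (bf v (P.dl s b) + bf v (π x) * β) • π x + bf v (π x) • P.dl s b := fun v => by
    rw [hte, P.M_ab ha hbz, P.M_full hs hsp hb hbz, qb]
  have hcomm : ∀ q : K, β * (F q).2.1.1 = β * (F q).1.2.1 ∧ β * (F q).2.1.2.1 = 0 ∧ β * (F q).2.1.2.2 = 0 := by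
    intro q
    obtain ⟨hk1, hk2, hk3⟩ := hKp q
    rcases F2_cases β with hβ | hβ
    · simp [hβ]
    set k := g * q.1 * g⁻¹
    have hcM : (M k).1 ((M t).1 σp) = (M t).1 ((M k).1 σp) := by
      have e : M k * M t = M t * M k := by rw [← P.h.M_mul _ _ hk2 htz, ← P.h.M_mul _ _ htz hk2, hk3]
      exact LinearEquiv.congr_fun (congrArg Subtype.val e) σp
    have hkp : (M k).1 (π x) = π x := hW q _ (bf_self _) hα hδ
    have hlin : ∀ v, nv q v = bf v (π x) • nv q σp + bf v (π a) • nv q σa + bf v (P.dl s b) • nv q σd := by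
      intro v
      obtain ⟨r1, r2, r3⟩ := hdec v
      have h1 := hW q _ r1 r2 r3
      show (M k).1 v + v = bf v (π x) • ((M k).1 σp + σp) + bf v (π a) • ((M k).1 σa + σa) +
        bf v (P.dl s b) • ((M k).1 σd + σd)
      simp only [map_add, map_smul] at h1
      simp only [smul_add]
      generalize bf v (π x) • (M k).1 σp = A1 at h1 ⊢
      generalize bf v (π a) • (M k).1 σa = A2 at h1 ⊢
      generalize bf v (P.dl s b) • (M k).1 σd = A3 at h1 ⊢
      generalize bf v (π x) • σp = B1 at h1 ⊢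
      generalize bf v (π a) • σa = B2 at h1 ⊢
      generalize bf v (P.dl s b) • σd = B3 at h1 ⊢
      calc (M k).1 v + v = (M k).1 v + A1 + A2 + A3 + (A1 + A2 + A3) + v := by
            rw [show (M k).1 v + A1 + A2 + A3 + (A1 + A2 + A3) = (M k).1 v + (A1 + A1) + (A2 + A2) + (A3 + A3) by abel]
            simp only [V_add_self, add_zero]
        _ = v + B1 + B2 + B3 + (A1 + A2 + A3) + v := by rw [h1]
        _ = A1 + B1 + (A2 + B2) + (A3 + B3) + (v + v) := by abel
        _ = _ := by rw [V_add_self, add_zero]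
    have hδn : nv q (P.dl s b) = β • nv q σa := by
      rw [hlin, bf_comm (P.dl s b) (π x), hδ, bf_comm (P.dl s b) (π a), hab, bf_self]; simp
    -- both sides
    have hR : (M t).1 (nv q σp) = nv q σp + bf (nv q σp) (P.dl s b) • π x := by
      rw [hMt]
      have : bf (nv q σp) (π x) = 0 := by
        rw [← hspan q σp]
        simp [cv, bf_add_left, bf_smul_left, bf_comm (π a) (π x), bf_comm (P.dl s b) (π x), hα, hδ, bf_self, P.p_q]
      rw [this, zero_mul, add_zero, zero_smul, add_zero]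
    have e1 : (M k).1 ((M t).1 σp) = (M t).1 σp + nv q σp + β • nv q σa := by
      rw [hMt σp, wp1, wp3, one_smul, one_mul, zero_add, map_add, map_add, map_smul, hkp, himg q σp, himg q (P.dl s b),
        hspan, hspan, hδn]
      abel
    have e2 : (M t).1 ((M k).1 σp) = (M t).1 σp + nv q σp + bf (nv q σp) (P.dl s b) • π x := by
      rw [himg q σp, hspan, map_add, hR]
      exact (add_assoc _ _ _).symm
    rw [e1, e2, add_right_inj, hβ, one_smul] at hcM
    have hb2 : bf (nv q σp) (P.dl s b) = (F q).1.2.1 := by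
      rw [← hspan q σp]
      simp [cv, F, bf_add_left, bf_smul_left, hδ, bf_self, hab, hβ, show (2 : F2) = 0 from rfl]
    rw [hb2] at hcM
    simp only [F, co, hβ, one_mul, hcM, bf_smul_right]
    simp [bf_comm σp (π x), bf_comm σa (π x), bf_comm σd (π x), show bf (π x) σp = 1 by rw [bf_comm]; exact wp1,
      show bf (π x) σa = 0 by rw [bf_comm]; exact wa1, show bf (π x) σd = 0 by rw [bf_comm]; exact wd1, F, co]
  have hFmem : ∀ q : K, F q ∈ (Finset.univ : Finset ((F2 × F2 × F2) × (F2 × F2 × F2) × (F2 × F2 × F2))).filter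
      fun n => gq β n.1 + n.1.1 = 0 ∧ gq β n.2.1 + n.2.1.2.1 = 0 ∧ gq β n.2.2 + n.2.2.2.2 = 0 ∧
      gb β n.1 n.2.1 + n.1.2.1 + n.2.1.1 = 0 ∧ gb β n.1 n.2.2 + n.1.2.2 + n.2.2.1 = 0 ∧
      gb β n.2.1 n.2.2 + n.2.1.2.2 + n.2.2.2.1 = 0 ∧
      β * n.2.1.1 = β * n.1.2.1 ∧ β * n.2.1.2.1 = 0 ∧ β * n.2.1.2.2 = 0 := by
    intro q
    refine Finset.mem_filter.mpr ⟨Finset.mem_univ _, ?_, ?_, ?_, ?_, ?_, ?_, hcomm q⟩
    · rw [← gram_q, hspan]; exact hqn q σp
    · rw [← gram_q, hspan]; exact hqn q σa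
    · rw [← gram_q, hspan]; exact hqn q σd
    · rw [← gram_b, hspan, hspan, ← hbn q σp σa, bf_comm (nv q σp) σa]; simp only [F, co]; ring
    · rw [← gram_b, hspan, hspan, ← hbn q σp σd, bf_comm (nv q σp) σd]; simp only [F, co]; ring
    · rw [← gram_b, hspan, hspan, ← hbn q σa σd, bf_comm (nv q σa) σd]; simp only [F, co]; ring
  have hFinj : Function.Injective F := by
    intro q q' e
    obtain ⟨hk1, hk2, -⟩ := hKp q
    obtain ⟨hk1', hk2', -⟩ := hKp q'
    simp only [F, Prod.mk.injEq] at e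
    have hMeq : M (g * q.1 * g⁻¹) = M (g * q'.1 * g⁻¹) := by
      refine Subtype.ext (LinearEquiv.ext fun v => ?_)
      obtain ⟨r1, r2, r3⟩ := hdec v
      set w := v + bf v (π x) • σp + bf v (π a) • σa + bf v (P.dl s b) • σd with hwd
      have hv : v = w + bf v (π x) • σp + bf v (π a) • σa + bf v (P.dl s b) • σd := by
        rw [hwd]
        generalize bf v (π x) • σp = B1
        generalize bf v (π a) • σa = B2
        generalize bf v (P.dl s b) • σd = B3
        rw [show v + B1 + B2 + B3 + B1 + B2 + B3 = v + (B1 + B1) + (B2 + B2) + (B3 + B3) by abel]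
        simp only [V_add_self, add_zero]
      rw [hv]
      simp only [map_add, map_smul]
      rw [hW q w r1 r2 r3, hW q' w r1 r2 r3, himg q σp, himg q σa, himg q σd, himg q' σp, himg q' σa, himg q' σd,
        e.1, e.2.1, e.2.2]
    have hz : (g * q.1 * g⁻¹)⁻¹ * (g * q'.1 * g⁻¹) * z = z * ((g * q.1 * g⁻¹)⁻¹ * (g * q'.1 * g⁻¹)) :=
      Commute.mul_left (Commute.inv_left hk2) hk2'
    have hQ : (g * q.1 * g⁻¹)⁻¹ * (g * q'.1 * g⁻¹) ∈ Q := by
      rw [← P.h.M_ker _ hz, P.h.M_mul _ _ (Commute.inv_left hk2) hk2', P.h.M_inv hk2, hMeq, inv_mul_cancel]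
    have := P.inter_trivial hs hsp ht' hg hQ (mul_mem (inv_mem hk1) hk1')
    exact Subtype.ext (mul_left_cancel (mul_right_cancel (inv_mul_eq_one.mp this)))
  haveI : Fintype K := Fintype.ofFinite K
  have hle := Finset.card_le_card_of_injOn F (s := Finset.univ) (fun q _ => hFmem q) hFinj.injOn
  rw [Finset.card_univ, ← Nat.card_eq_fintype_card] at hle
  have := hle.trans (count_fixer β)
  change 16 ≤ Nat.card K at hC
  omega

end Pr

end CfsgLib.ConwayType
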