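import Cfsg.Agent.Lib.ConwayType.Part

/-!
Involutions of the derived orthogonal group of the hyperbolic space of dimension eight: an axis.
-/

set_option autoImplicit false
set_option linter.unusedSectionVars false

namespace CfsgLib.ConwayType

open QuadraticMap Module CfsgLib.WittExtension CfsgLib.SpinorNorm

/-- The displacement of a map. -/
def dsp (T : O8) : V →ₗ[F2] V := T.1.toLinearMap + LinearMap.id

theorem dsp_apply (T : O8) (v : V) : dsp T v = T.1 v + v := rfl

theorem map_eq_add_dsp (T : O8) (v : V) : T.1 v = v + dsp T v := by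
  rw [dsp_apply, add_comm (T.1 v) v, ← add_assoc, V_add_self, zero_add]

theorem dsp_sign (T : O8) :
    dicksonHom qf qf_nondeg closure_refl8 T = (-1 : ℤˣ) ^ finrank F2 (LinearMap.range (dsp T)) := by
  show ((-1 : ℤˣ)) ^ (finrank F2 V + finrank F2 (fixSpace qf T)) = _
  have hker : LinearMap.ker (dsp T) = fixSpace qf T := by
    ext v
    rw [LinearMap.mem_ker, dsp_apply, mem_fix]
    refine ⟨fun e => ?_, fun e => by rw [e, V_add_self]⟩
    rw [← add_zero (T.1 v), ← V_add_self v, ← add_assoc, e, zero_add]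
  have hr := LinearMap.finrank_range_add_finrank_ker (dsp T)
  rw [hker] at hr
  rw [← hr, show finrank F2 (LinearMap.range (dsp T)) + finrank F2 (fixSpace qf T) + finrank F2 (fixSpace qf T)
    = finrank F2 (LinearMap.range (dsp T)) + 2 * finrank F2 (fixSpace qf T) by ring, pow_add, pow_mul, Int.units_sq,
    one_pow, mul_one]

section

variable {T : O8} (h2 : T * T = 1)
include h2

theorem dsp_invol (v : V) : T.1 (T.1 v) = v := LinearEquiv.congr_fun (congrArg Subtype.val h2) v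

theorem dsp_adj (v w : V) : bf (dsp T v) w = bf v (dsp T w) := by
  rw [dsp_apply, dsp_apply, bf_add_left, bf_add_right]
  conv_lhs => rw [← bf_map T, dsp_invol h2]

theorem dsp_dsp (v : V) : dsp T (dsp T v) = 0 := by
  rw [dsp_apply, dsp_apply, map_add, dsp_invol h2, add_comm v, V_add_self]

theorem dsp_fix (v : V) : T.1 (dsp T v) = dsp T v := by
  rw [map_eq_add_dsp, dsp_dsp h2, add_zero]

theorem dsp_perp (v w : V) : bf (dsp T v) (dsp T w) = 0 := by
  rw [dsp_adj h2, dsp_dsp h2, bf_zero_right]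

theorem qf_dsp (v : V) : qf (dsp T v) = bf v (dsp T v) := by
  rw [← dsp_adj h2, dsp_apply, qf_add, T.2, bf_add_left, bf_self, add_zero, F2_add_self, zero_add]

theorem dsp_rank_le : finrank F2 (LinearMap.range (dsp T)) ≤ 4 := by
  have hle : finrank F2 (LinearMap.range (dsp T)) ≤ finrank F2 (LinearMap.ker (dsp T)) := by
    refine Submodule.finrank_mono ?_
    rintro _ ⟨v, rfl⟩
    exact LinearMap.mem_ker.mpr (dsp_dsp h2 v)
  have hr := LinearMap.finrank_range_add_finrank_ker (dsp T)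
  rw [finrank_V] at hr
  omega

/-- The vectors orthogonal to the fixed vectors are displacements. -/
theorem exists_dsp {φ : V} (h : ∀ v, dsp T v = 0 → bf v φ = 0) : ∃ w, dsp T w = φ := by
  have hrefl : (polarBilin qf).IsRefl := fun a b e => by
    show bf b a = 0
    rw [bf_comm]; exact e
  refine (LinearMap.mem_range : φ ∈ LinearMap.range (dsp T) ↔ _).mp ?_
  rw [← LinearMap.BilinForm.orthogonal_orthogonal qf_nondeg hrefl (LinearMap.range (dsp T))]
  intro w hw
  show bf w φ = 0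
  refine h w (qf_nondeg.2 _ fun u => ?_)
  show bf u (dsp T w) = 0
  rw [← dsp_adj h2]
  exact hw _ ⟨u, rfl⟩

/-- The shape of the displacement on the perpendicular of a vector where it is singular. -/
theorem dsp_shape {p : V} (hp : ∃ w, dsp T w = p) (hq : ∀ v, bf v p = 0 → qf (dsp T v) = 0) :
    (∀ v, bf v p = 0 → Eqp p v (T.1 v)) ∨
    (∃ v1 v2, bf v1 p = 0 ∧ bf v2 p = 0 ∧ bf v1 (dsp T v2) = 1 ∧ bf v2 (dsp T v1) = 1 ∧
      ∀ v, bf v p = 0 → Eqp p (v + bf v (dsp T v1) • dsp T v2 + bf v (dsp T v2) • dsp T v1) (T.1 v)) ∨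
    (4 ≤ finrank F2 (LinearMap.range (dsp T)) ∧ (p ≠ 0 → 5 ≤ finrank F2 (LinearMap.range (dsp T)))) := by
  classical
  by_cases hrad : ∀ v, bf v p = 0 → Eqp p v (T.1 v)
  · exact Or.inl hrad
  push Not at hrad
  obtain ⟨v1, hv1, hne⟩ := hrad
  have hz : ∀ {v : V}, ¬ Eqp p v (T.1 v) → dsp T v ≠ 0 ∧ dsp T v ≠ p := fun {v} hv =>
    ⟨fun e => hv (Or.inl (by rw [map_eq_add_dsp, e, add_zero])), fun e => hv (Or.inr (by rw [map_eq_add_dsp, e]))⟩
  obtain ⟨hc1, hc1p⟩ := hz hne
  obtain ⟨v2, hv2, h21⟩ := exists_perp_one hc1 hc1p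
  have h12 : bf v1 (dsp T v2) = 1 := by rw [← dsp_adj h2, bf_comm]; exact h21
  right
  by_cases hall : ∀ v, bf v p = 0 → Eqp p (v + bf v (dsp T v1) • dsp T v2 + bf v (dsp T v2) • dsp T v1) (T.1 v)
  · exact Or.inl ⟨v1, v2, hv1, hv2, h12, h21, hall⟩
  right
  push Not at hall
  obtain ⟨v, hv, hvne⟩ := hall
  have h11 : bf v1 (dsp T v1) = 0 := (qf_dsp h2 v1).symm.trans (hq v1 hv1)
  have h22 : bf v2 (dsp T v2) = 0 := (qf_dsp h2 v2).symm.trans (hq v2 hv2)
  have adj : ∀ u, bf u p = 0 → ∃ u', bf u' p = 0 ∧ bf u' (dsp T v1) = 0 ∧ bf u' (dsp T v2) = 0 ∧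
      u' = u + bf u (dsp T v1) • v2 + bf u (dsp T v2) • v1 := fun u hu => by
    refine ⟨_, ?_, ?_, ?_, rfl⟩
    · rw [bf_add_left, bf_add_left, bf_smul_left, bf_smul_left, hu, hv1, hv2]; simp
    · rw [bf_add_left, bf_add_left, bf_smul_left, bf_smul_left, h21, h11, mul_one, mul_zero, add_zero, F2_add_self]
    · rw [bf_add_left, bf_add_left, bf_smul_left, bf_smul_left, h22, h12, mul_one, mul_zero, add_zero, F2_add_self]
  obtain ⟨v3, hv3, h31, h32, e3⟩ := adj v hv
  have hc3' : ¬ Eqp p v3 (T.1 v3) := by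
    intro hh
    apply hvne
    have key : T.1 v = v + bf v (dsp T v1) • dsp T v2 + bf v (dsp T v2) • dsp T v1 + dsp T v3 := by
      rw [e3, map_add, map_add, map_smul, map_smul, map_eq_add_dsp T v]
      generalize bf v (dsp T v1) • dsp T v2 = A
      generalize bf v (dsp T v2) • dsp T v1 = B
      generalize dsp T v = D
      rw [show v + A + B + (D + A + B) = v + D + (A + A) + (B + B) by abel]
      simp only [V_add_self, add_zero]
    rw [key]
    rw [map_eq_add_dsp T v3] at hh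
    rcases hh with e' | e'
    · rw [add_eq_left.mp e', add_zero]; exact Or.inl rfl
    · rw [add_left_cancel e']; exact Or.inr rfl
  obtain ⟨hc3, hc3p⟩ := hz hc3'
  obtain ⟨u, hu, hu3⟩ := exists_perp_one hc3 hc3p
  obtain ⟨v4, hv4, h41, h42, e4⟩ := adj u hu
  have h13 : bf v1 (dsp T v3) = 0 := by rw [← dsp_adj h2, bf_comm]; exact h31
  have h23 : bf v2 (dsp T v3) = 0 := by rw [← dsp_adj h2, bf_comm]; exact h32
  have h14 : bf v1 (dsp T v4) = 0 := by rw [← dsp_adj h2, bf_comm]; exact h41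
  have h24 : bf v2 (dsp T v4) = 0 := by rw [← dsp_adj h2, bf_comm]; exact h42
  have h43 : bf v4 (dsp T v3) = 1 := by
    rw [e4, bf_add_left, bf_add_left, bf_smul_left, bf_smul_left, h23, h13, hu3]; simp
  have h34 : bf v3 (dsp T v4) = 1 := by rw [← dsp_adj h2, bf_comm]; exact h43
  have h33 : bf v3 (dsp T v3) = 0 := (qf_dsp h2 v3).symm.trans (hq v3 hv3)
  have h44 : bf v4 (dsp T v4) = 0 := (qf_dsp h2 v4).symm.trans (hq v4 hv4)
  let Φ : ↥(LinearMap.range (dsp T)) →ₗ[F2] (Fin 4 → F2) :=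
    { toFun := fun r => ![bf v1 r.1, bf v2 r.1, bf v3 r.1, bf v4 r.1]
      map_add' := fun r r' => by
        funext i; fin_cases i <;> simp [bf_add_right]
      map_smul' := fun a r => by
        funext i; fin_cases i <;> simp [bf_smul_right] }
  have hsurj : LinearMap.range Φ = ⊤ := by
    refine LinearMap.range_eq_top.mpr fun c => ?_
    refine ⟨⟨dsp T (c 0 • v2 + c 1 • v1 + c 2 • v4 + c 3 • v3), _, rfl⟩, ?_⟩
    funext i
    fin_cases i <;>
      simp [Φ, bf_add_right, bf_smul_right, h11, h12, h21, h22, h13, h14, h23, h24, h31, h32, h33, h34, h41, h42,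
        h43, h44]
  have hr := LinearMap.finrank_range_add_finrank_ker Φ
  rw [hsurj, finrank_top, Module.finrank_pi, Fintype.card_fin] at hr
  refine ⟨by omega, fun hp0 => ?_⟩
  obtain ⟨w, hw⟩ := hp
  have hmem : (⟨p, ⟨w, hw⟩⟩ : ↥(LinearMap.range (dsp T))) ∈ LinearMap.ker Φ := by
    rw [LinearMap.mem_ker]
    funext i; fin_cases i <;> simp [Φ, hv1, hv2, hv3, hv4]
  have hpos : 0 < finrank F2 (LinearMap.ker Φ) := by
    rw [Nat.pos_iff_ne_zero, Ne, Submodule.finrank_eq_zero]
    intro e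
    rw [e, Submodule.mem_bot] at hmem
    exact hp0 (congrArg Subtype.val hmem)
  omega

/-- Displacements which are all singular span an even dimension. -/
theorem even_of_singular (hq : ∀ v, qf (dsp T v) = 0) : Even (finrank F2 (LinearMap.range (dsp T))) := by
  rcases dsp_shape h2 (p := 0) ⟨0, map_zero _⟩ (fun v _ => hq v) with h | ⟨v1, v2, -, -, h12, h21, h⟩ | ⟨h, -⟩
  · have : dsp T = 0 := LinearMap.ext fun v => by
      rcases h v (bf_zero_right v) with e | e
      · rw [dsp_apply, e, V_add_self]; rfl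
      · rw [dsp_apply, e, add_zero, V_add_self]; rfl
    rw [this, LinearMap.range_zero, finrank_bot]; exact Even.zero
  · refine ⟨1, le_antisymm ?_ ?_⟩
    · have hsub : LinearMap.range (dsp T) ≤ Submodule.span F2 (Set.range ![dsp T v1, dsp T v2]) := by
        rintro _ ⟨v, rfl⟩
        have e : dsp T v = bf v (dsp T v1) • dsp T v2 + bf v (dsp T v2) • dsp T v1 := by
          rcases h v (bf_zero_right v) with e | e <;>
            rw [dsp_apply T v, e] <;> (try simp only [add_zero]) <;>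
            rw [show v + bf v (dsp T v1) • dsp T v2 + bf v (dsp T v2) • dsp T v1 + v =
              v + v + (bf v (dsp T v1) • dsp T v2 + bf v (dsp T v2) • dsp T v1) by abel, V_add_self, zero_add]
        rw [e]
        exact add_mem (Submodule.smul_mem _ _ (Submodule.subset_span ⟨1, rfl⟩))
          (Submodule.smul_mem _ _ (Submodule.subset_span ⟨0, rfl⟩))
      refine (Submodule.finrank_mono hsub).trans ?_
      have := finrank_range_le_card (R := F2) ![dsp T v1, dsp T v2]
      simpa [Set.finrank] using this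
    · let Φ : ↥(LinearMap.range (dsp T)) →ₗ[F2] (Fin 2 → F2) :=
        { toFun := fun r => ![bf v1 r.1, bf v2 r.1]
          map_add' := fun r r' => by funext i; fin_cases i <;> simp [bf_add_right]
          map_smul' := fun a r => by funext i; fin_cases i <;> simp [bf_smul_right] }
      have h11 : bf v1 (dsp T v1) = 0 := (qf_dsp h2 v1).symm.trans (hq v1)
      have h22 : bf v2 (dsp T v2) = 0 := (qf_dsp h2 v2).symm.trans (hq v2)
      have hsurj : LinearMap.range Φ = ⊤ := LinearMap.range_eq_top.mpr fun c =>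
        ⟨⟨dsp T (c 0 • v2 + c 1 • v1), _, rfl⟩, by
          funext i; fin_cases i <;> simp [Φ, bf_add_right, bf_smul_right, h11, h12, h21, h22]⟩
      have hr := LinearMap.finrank_range_add_finrank_ker Φ
      rw [hsurj, finrank_top, Module.finrank_pi, Fintype.card_fin] at hr
      omega
  · exact ⟨2, le_antisymm (dsp_rank_le h2) h⟩

/-- An axis of an involution of the derived group. -/
theorem exists_axis (hT : T ∈ Om) (h1 : T ≠ 1) :
    ∃ p w : V, qf p = 0 ∧ p ≠ 0 ∧ dsp T w = p ∧ T.1 p = p ∧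
      ((∀ v, bf v p = 0 → Eqp p v (T.1 v)) ∨
      ∃ c1 c2 v1 v2 : V, bf v1 p = 0 ∧ bf v2 p = 0 ∧ bf p c1 = 0 ∧ bf p c2 = 0 ∧ qf c1 = 0 ∧ qf c2 = 0 ∧
        bf c1 c2 = 0 ∧ bf v1 c1 = 0 ∧ bf v1 c2 = 1 ∧ bf v2 c1 = 1 ∧ bf v2 c2 = 0 ∧ T.1 c1 = c1 ∧ T.1 c2 = c2 ∧
        ∀ v, bf v p = 0 → Eqp p (v + bf v c1 • c2 + bf v c2 • c1) (T.1 v)) := by
  have hev : Even (finrank F2 (LinearMap.range (dsp T))) := by
    have hd := dsp_sign T
    rw [MonoidHom.mem_ker.mp (Abelianization.commutator_subset_ker (dicksonHom qf qf_nondeg closure_refl8) hT)] at hd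
    rcases Nat.even_or_odd (finrank F2 (LinearMap.range (dsp T))) with e | e
    · exact e
    · rw [e.neg_one_pow] at hd
      exact absurd hd (by decide)
  suffices hax : ∃ p w : V, qf p = 0 ∧ p ≠ 0 ∧ dsp T w = p ∧ ∀ v, bf v p = 0 → qf (dsp T v) = 0 by
    obtain ⟨p, w, hp, hp0, hw, hperp⟩ := hax
    refine ⟨p, w, hp, hp0, hw, hw ▸ dsp_fix h2 w, ?_⟩
    rcases dsp_shape h2 ⟨w, hw⟩ hperp with h | ⟨v1, v2, hv1, hv2, h12, h21, h⟩ | ⟨-, h⟩
    · exact Or.inl h
    · exact Or.inr ⟨dsp T v1, dsp T v2, v1, v2, hv1, hv2, by rw [← hw]; exact dsp_perp h2 w v1,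
        by rw [← hw]; exact dsp_perp h2 w v2, hperp v1 hv1, hperp v2 hv2, dsp_perp h2 v1 v2,
        (qf_dsp h2 v1).symm.trans (hperp v1 hv1), h12, h21, (qf_dsp h2 v2).symm.trans (hperp v2 hv2),
        dsp_fix h2 v1, dsp_fix h2 v2, h⟩
    · have := h hp0
      have := dsp_rank_le h2
      omega
  let L : V →ₗ[F2] F2 :=
    (AddMonoidHom.mk' (fun v => qf (dsp T v)) fun v w => by
      rw [map_add, qf_add, dsp_perp h2, add_zero]).toZModLinearMap 2
  obtain ⟨φ, hφ⟩ := exists_dual L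
  have hL : ∀ v, qf (dsp T v) = bf v φ := hφ
  by_cases hφ0 : φ = 0
  · subst hφ0
    obtain ⟨w, hw⟩ : ∃ w, dsp T w ≠ 0 := by
      by_contra hall
      push Not at hall
      refine h1 (Subtype.ext (LinearEquiv.ext fun v => ?_))
      show T.1 v = v
      rw [map_eq_add_dsp, hall v, add_zero]
    exact ⟨dsp T w, w, by rw [hL, bf_zero_right], hw, rfl, fun v _ => by rw [hL, bf_zero_right]⟩
  obtain ⟨w, hw⟩ := exists_dsp h2 (φ := φ) fun v hv => by rw [← hL, hv, qf_zero]
  refine ⟨φ, w, ?_, hφ0, hw, fun v hv => (hL v).trans hv⟩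
  by_contra hq
  have hq1 : qf φ = 1 := (F2_cases _).resolve_left hq
  set T' : O8 := tr φ hq1 * T with hT'
  have hTφ : T.1 φ = φ := hw ▸ dsp_fix h2 w
  have hap : ∀ v, T'.1 v = T.1 v + bf v φ • φ := fun v => by
    show (tr φ hq1).1 (T.1 v) = _
    rw [tr_apply]
    conv_lhs => rw [← hTφ, bf_map, hTφ]
  have h2' : T' * T' = 1 := Subtype.ext (LinearEquiv.ext fun v => by
    show T'.1 (T'.1 v) = v
    rw [hap, hap, map_add, map_smul, dsp_invol h2, hTφ, bf_add_left, bf_smul_left, bf_self, mul_zero, add_zero,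
      show bf (T.1 v) φ = bf v φ by conv_lhs => rw [← hTφ, bf_map], add_assoc, V_add_self, add_zero])
  have hq' : ∀ v, qf (dsp T' v) = 0 := fun v => by
    rw [dsp_apply, hap, show T.1 v + bf v φ • φ + v = dsp T v + bf v φ • φ by rw [dsp_apply]; abel, qf_add, hL,
      qf_smul, hq1, mul_one, bf_smul_right]
    conv_lhs => rw [← hw, dsp_perp h2, mul_zero, add_zero, hw]
    exact F2_add_self _
  have hd := dsp_sign T'
  rw [(even_of_singular h2' hq').neg_one_pow, hT', map_mul, tr, dicksonHom_refl,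
    MonoidHom.mem_ker.mp (Abelianization.commutator_subset_ker (dicksonHom qf qf_nondeg closure_refl8) hT)] at hd
  exact absurd hd (by decide)

end

end CfsgLib.ConwayType
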