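import Cfsg.Agent.Lib.ConwayType.Space

/-!
Transitivity and small facts in the hyperbolic space of dimension eight over two elements.
-/

set_option autoImplicit false
set_option maxRecDepth 20000
set_option synthInstance.maxSize 2048
set_option synthInstance.maxHeartbeats 200000

namespace CfsgLib.ConwayType

open QuadraticMap Module CfsgLib.WittExtension CfsgLib.SpinorNorm

/-- The polar form. -/
abbrev bf (u v : V) : F2 := polar qf u v

theorem bf_comm (u v : V) : bf u v = bf v u := polar_comm _ u v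
theorem bf_add_left (u u' v : V) : bf (u + u') v = bf u v + bf u' v := polar_add_left qf u u' v
theorem bf_add_right (u v v' : V) : bf u (v + v') = bf u v + bf u v' := polar_add_right qf u v v'
theorem bf_self (u : V) : bf u u = 0 := by
  show polar qf u u = 0
  rw [polar_self, two_nsmul]
  exact (show ∀ a : F2, a + a = 0 by decide) _
theorem bf_zero_left (v : V) : bf 0 v = 0 := polar_zero_left qf v
theorem bf_zero_right (v : V) : bf v 0 = 0 := by rw [bf_comm, bf_zero_left]
theorem qf_add (u v : V) : qf (u + v) = qf u + qf v + bf u v := QuadraticMap.map_add qf u v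

theorem bf_map (g : O8) (u v : V) : bf (g.1 u) (g.1 v) = bf u v := by
  show polar qf (g.1 u) (g.1 v) = polar qf u v
  rw [polar, polar, ← map_add, g.2, g.2, g.2]

theorem bf_eq_one {u v : V} (h : bf u v ≠ 0) : bf u v = 1 := (F2_cases _).resolve_left h

theorem bf_smul_left (r : F2) (u v : V) : bf (r • u) v = r * bf u v := by
  show polar qf (r • u) v = _
  rw [polar_smul_left]; rfl

theorem bf_smul_right (r : F2) (u v : V) : bf u (r • v) = r * bf u v := by
  show polar qf u (r • v) = _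
  rw [polar_smul_right]; rfl

theorem qf_zero : qf (0 : V) = 0 := QuadraticMap.map_zero qf

theorem qf_smul (r : F2) (u : V) : qf (r • u) = r * qf u := by
  rcases F2_cases r with rfl | rfl <;> simp

theorem exists_dual (ψ : V →ₗ[F2] F2) : ∃ φ : V, ∀ v, ψ v = bf v φ := by
  refine ⟨(LinearMap.BilinForm.toDual (polarBilin qf) qf_nondeg).symm ψ, fun v => ?_⟩
  rw [bf_comm]
  exact (LinearMap.BilinForm.apply_toDual_symm_apply (hB := qf_nondeg) ψ v).symm

/-- Vectors orthogonal to all vectors orthogonal to a finite family lie in its span. -/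
theorem mem_span_of_perp_all {n : ℕ} (f : Fin n → V) {v : V} (h : ∀ w, (∀ i, bf (f i) w = 0) → bf v w = 0) :
    ∃ c : Fin n → F2, v = ∑ i, c i • f i := by
  have hrefl : (polarBilin qf).IsRefl := fun a b e => by
    show bf b a = 0
    rw [bf_comm]; exact e
  have hv : v ∈ Submodule.span F2 (Set.range f) := by
    rw [← LinearMap.BilinForm.orthogonal_orthogonal qf_nondeg hrefl (Submodule.span F2 (Set.range f))]
    intro w hw
    show bf w v = 0
    rw [bf_comm]
    exact h w fun i => hw _ (Submodule.subset_span ⟨i, rfl⟩)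
  obtain ⟨c, hc⟩ := Submodule.mem_span_range_iff_exists_fun F2 |>.mp hv
  exact ⟨c, hc.symm⟩

/-- Two linear conditions not following from each other can be met. -/
theorem exists_perp_one {p c : V} (h0 : c ≠ 0) (h1 : c ≠ p) : ∃ v, bf v p = 0 ∧ bf v c = 1 := by
  by_contra hno
  push Not at hno
  obtain ⟨r, hr⟩ := mem_span_of_perp_all ![p] (v := c) fun w hw => by
    rcases F2_cases (bf w c) with e | e
    · rw [bf_comm, e]
    · exact absurd e (hno w (by rw [bf_comm]; exact hw 0))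
  rw [Fin.sum_univ_one, Matrix.cons_val_fin_one] at hr
  rcases F2_cases (r 0) with e | e <;> rw [e] at hr
  · exact h0 (by rw [hr, zero_smul])
  · exact h1 (by rw [hr, one_smul])

/-- A point. -/
def e0 : V := Pi.single (.inl 0) 1
/-- A second point. -/
def e1 : V := Pi.single (.inl 1) 1
/-- A third point. -/
def e2 : V := Pi.single (.inl 2) 1
/-- The partner of the second point. -/
def f1 : V := Pi.single (.inr 1) 1
/-- An elliptic pair. -/
def d0 : V := Pi.single (.inl 3) 1 + Pi.single (.inr 3) 1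
/-- An elliptic pair. -/
def d1 : V := Pi.single (.inl 3) 1 + Pi.single (.inl 2) 1 + Pi.single (.inr 2) 1
/-- A vector orthogonal to the standard triple. -/
def u0 : V := Pi.single (.inl 1) 1 + Pi.single (.inr 1) 1

/-! ### Facts at the standard point -/

theorem std_q : qf e0 = 0 ∧ qf e1 = 0 ∧ qf e2 = 0 ∧ qf f1 = 0 ∧ qf d0 = 1 ∧ qf d1 = 1 ∧ qf u0 = 1 := by
  decide +kernel

theorem std_bf : bf e0 e1 = 0 ∧ bf e0 e2 = 0 ∧ bf e1 e2 = 0 ∧ bf e0 f1 = 0 ∧ bf e1 f1 = 1 ∧ bf e0 d0 = 0 ∧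
    bf e0 d1 = 0 ∧ bf d0 d1 = 1 ∧ bf e1 d0 = 0 ∧ bf e2 d0 = 0 ∧ bf e0 u0 = 0 ∧ bf d0 u0 = 0 ∧ bf d1 u0 = 0 := by
  decide +kernel

theorem std_ne : e0 ≠ 0 ∧ e1 ≠ 0 ∧ e1 ≠ e0 ∧ f1 ≠ 0 ∧ f1 ≠ e0 := by decide +kernel

theorem indep_012 : ∀ a b c : F2, a • e0 + b • e1 + c • e2 = 0 → a = 0 ∧ b = 0 ∧ c = 0 := by decide +kernel

/-- The class of a vector orthogonal to the standard triple modulo it. -/
def cls (v : V) : F2 × F2 := (v (.inl 3), v (.inr 3))

theorem cls_facts : ∀ v : V, bf e0 v = 0 → bf e1 v = 0 → bf e2 v = 0 →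
    qf v = (cls v).1 * (cls v).2 ∧ (cls v = 0 → ∃ a b c : F2, v = a • e0 + b • e1 + c • e2) := by
  decide +kernel

/-- A dependence in the hyperbolic plane. -/
theorem plane_dep : ∀ f d g : F2 × F2,
    d.1 * d.2 = (f + g).1 * d.2 + (f + g).2 * d.1 →
    (f + g).1 * (f + g).2 = (f + g).1 * d.2 + (f + g).2 * d.1 + (g.1 * d.2 + g.2 * d.1) →
    g.1 * g.2 = 0 → d = 0 ∨ f + d = 0 ∨ f = 0 := by
  decide +kernel

theorem span_std : ∀ v : V, bf e0 v = 0 → v = 0 ∨ v = e0 ∨ qf v = 0 ∨
    ∃ w : V, qf w = 0 ∧ bf e0 w = 0 ∧ w ≠ 0 ∧ w ≠ e0 ∧ qf (v + w) = 0 ∧ v + w ≠ 0 ∧ v + w ≠ e0 := by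
  decide +kernel

/-- Pairs of vectors of norm one, found by running over the elements orthogonal to the standard line. -/
theorem only_line : ∀ v : V, bf e0 v = 0 → (v = 0 ∨ v = e0 ∨ v = e1 ∨ v = e1 + e0) ∨
    ∃ a : V, qf a = 1 ∧ bf e0 a = 0 ∧ bf e1 a = 0 ∧ ∃ b : V, qf b = 1 ∧ bf e0 b = 0 ∧ bf e1 b = 0 ∧
      v + bf v b • b + bf (v + bf v b • b) a • a ≠ v ∧ v + bf v b • b + bf (v + bf v b • b) a • a ≠ v + e0 := by
  decide +kernel

/-! ### Reflections -/

/-- The reflection in a vector of norm one. -/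
noncomputable def tr (a : V) (ha : qf a = 1) : O8 := refl qf (v := a) (by rw [ha]; exact one_ne_zero)

theorem tr_apply (a : V) (ha : qf a = 1) (v : V) : (tr a ha).1 v = v + bf v a • a := by
  rw [tr, refl_apply, ha]
  rw [inv_one, one_mul, polar_comm, (show ∀ c : F2, -c = c by decide)]

theorem tr_not_mem (a : V) (ha : qf a = 1) : tr a ha ∉ Om := fun h => by
  have := MonoidHom.mem_ker.mp (Abelianization.commutator_subset_ker (dicksonHom qf qf_nondeg closure_refl8) h)
  rw [tr, dicksonHom_refl] at this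
  exact absurd this (by decide)

theorem tr_mul_mem (a b : V) (ha : qf a = 1) (hb : qf b = 1) : tr a ha * tr b hb ∈ Om :=
  (Subgroup.mul_mem_iff_of_index_two index_Om).mpr (iff_of_false (tr_not_mem a ha) (tr_not_mem b hb))

/-! ### Moving configurations -/

theorem move {n : ℕ} (f f' : Fin n → V)
    (hf : ∀ c : Fin n → F2, Fintype.linearCombination F2 f c = 0 → c = 0)
    (hf' : ∀ c : Fin n → F2, Fintype.linearCombination F2 f' c = 0 → c = 0)
    (hq : ∀ c : Fin n → F2, qf (Fintype.linearCombination F2 f c) = qf (Fintype.linearCombination F2 f' c)) :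
    ∃ g : O8, ∀ i, g.1 (f i) = f' i := by
  classical
  set φ := Fintype.linearCombination F2 f
  set φ' := Fintype.linearCombination F2 f'
  have hφ : Function.Injective φ := (injective_iff_map_eq_zero φ).mpr hf
  have hφ' : Function.Injective φ' := (injective_iff_map_eq_zero φ').mpr hf'
  let R := LinearEquiv.ofInjective φ hφ
  obtain ⟨g, hg, hgX⟩ := quad_extend qf qf_nondeg (LinearMap.range φ) (φ'.comp R.symm.toLinearMap)
    (hφ'.comp R.symm.injective) (fun x => by
      obtain ⟨c, rfl⟩ := R.surjective x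
      show qf (φ' (R.symm (R c))) = qf (φ c)
      rw [R.symm_apply_apply, hq])
  refine ⟨⟨g, hg⟩, fun i => ?_⟩
  have := hgX (R (Pi.single i 1))
  simp only [LinearMap.comp_apply, LinearEquiv.coe_coe, R.symm_apply_apply] at this
  rw [show ((R (Pi.single i 1) : LinearMap.range φ) : V) = φ (Pi.single i 1) from rfl] at this
  simp only [φ, φ', Fintype.linearCombination_apply_single, one_smul] at this
  exact this

/-- A map to a standard configuration can be taken in the derived group. -/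
theorem move_mem {n : ℕ} {f' : Fin n → V} {g : O8} {f : Fin n → V} (hg : ∀ i, g.1 (f i) = f' i)
    {a : V} (ha : qf a = 1) (hfix : ∀ i, bf (f' i) a = 0) : ∃ h ∈ Om, ∀ i, h.1 (f i) = f' i := by
  by_cases hm : g ∈ Om
  · exact ⟨g, hm, hg⟩
  refine ⟨tr a ha * g, (Subgroup.mul_mem_iff_of_index_two index_Om).mpr (iff_of_false (tr_not_mem a ha) hm), fun i => ?_⟩
  show (tr a ha).1 (g.1 (f i)) = f' i
  rw [hg, tr_apply, hfix, zero_smul, add_zero]

/-- A linear combination in a frame, read off by pairings. -/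
theorem qf_comb3 (r : Fin 3 → F2) (u v w : V) :
    qf (r 0 • u + r 1 • v + r 2 • w) = r 0 * qf u + r 1 * qf v + r 2 * qf w +
      r 0 * r 1 * bf u v + r 0 * r 2 * bf u w + r 1 * r 2 * bf v w := by
  rw [qf_add, qf_add, qf_smul, qf_smul, qf_smul, bf_add_left, bf_smul_left, bf_smul_left, bf_smul_left,
    bf_smul_right, bf_smul_right, bf_smul_right]
  ring

theorem std_one {p : V} (hq : qf p = 0) (hp : p ≠ 0) : ∃ g ∈ Om, g.1 p = e0 := by
  have hind : ∀ v : V, v ≠ 0 → ∀ c : Fin 1 → F2, Fintype.linearCombination F2 ![v] c = 0 → c = 0 := by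
    intro v hv c hc
    rw [Fintype.linearCombination_apply, Fin.sum_univ_one] at hc
    funext i
    rw [Fin.fin_one_eq_zero i]
    exact (smul_eq_zero.mp hc).resolve_right hv
  obtain ⟨g, hg⟩ := move ![p] ![e0] (hind p hp) (hind e0 std_ne.1) fun c => by
    simp only [Fintype.linearCombination_apply, Fin.sum_univ_one, Matrix.cons_val_fin_one, qf_smul, hq, std_q.1]
  obtain ⟨h, hh, hfix⟩ := move_mem hg std_q.2.2.2.2.2.2 fun i => by
    rw [Fin.fin_one_eq_zero i]; exact std_bf.2.2.2.2.2.2.2.2.2.2.1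
  exact ⟨h, hh, hfix 0⟩

theorem std_two {p w : V} (hq : qf p = 0) (hp : p ≠ 0) (hw : qf w = 0) (hb : bf p w = 0) (hw0 : w ≠ 0)
    (hne : w ≠ p) : ∃ g ∈ Om, g.1 p = e0 ∧ g.1 w = e1 := by
  have hind : ∀ v u : V, v ≠ 0 → u ≠ 0 → u ≠ v →
      ∀ c : Fin 2 → F2, Fintype.linearCombination F2 ![v, u] c = 0 → c = 0 := by
    intro v u hv hu hvu c hc
    rw [Fintype.linearCombination_apply, Fin.sum_univ_two] at hc
    simp only [Matrix.cons_val_zero, Matrix.cons_val_one] at hc
    rcases F2_cases (c 0) with h0 | h0 <;> rcases F2_cases (c 1) with h1 | h1 <;> rw [h0, h1] at hc <;>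
      simp only [zero_smul, one_smul, zero_add, add_zero] at hc
    · funext i; fin_cases i <;> assumption
    · exact absurd hc hu
    · exact absurd hc hv
    · exact absurd (by rw [← add_zero u, ← hc, add_comm v u, ← add_assoc, V_add_self, zero_add]) hvu
  obtain ⟨g, hg⟩ := move ![p, w] ![e0, e1] (hind p w hp hw0 hne) (hind e0 e1 std_ne.1 std_ne.2.1 std_ne.2.2.1)
    fun c => by
    simp only [Fintype.linearCombination_apply, Fin.sum_univ_two, Matrix.cons_val_zero, Matrix.cons_val_one, qf_add,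
      qf_smul, bf_smul_left, bf_smul_right, hq, std_q.1, hw, std_q.2.1, hb, std_bf.1]
  obtain ⟨h, hh, hfix⟩ := move_mem hg std_q.2.2.2.2.1 fun i => by
    fin_cases i
    · exact std_bf.2.2.2.2.2.1
    · exact std_bf.2.2.2.2.2.2.2.2.1
  exact ⟨h, hh, hfix 0, hfix 1⟩

/-- Three vectors without a linear relation, by their form values. -/
theorem std_three {p a b A B U : V} (hind : ∀ i j k : F2, i • p + j • a + k • b = 0 → i = 0 ∧ j = 0 ∧ k = 0)
    (hind' : ∀ i j k : F2, i • e0 + j • A + k • B = 0 → i = 0 ∧ j = 0 ∧ k = 0)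
    (h1 : qf p = qf e0) (h2 : qf a = qf A) (h3 : qf b = qf B) (h4 : bf p a = bf e0 A) (h5 : bf p b = bf e0 B)
    (h6 : bf a b = bf A B) (hU : qf U = 1) (hU0 : bf e0 U = 0) (hUA : bf A U = 0) (hUB : bf B U = 0) :
    ∃ g ∈ Om, g.1 p = e0 ∧ g.1 a = A ∧ g.1 b = B := by
  have conv : ∀ u v w : V, (∀ i j k : F2, i • u + j • v + k • w = 0 → i = 0 ∧ j = 0 ∧ k = 0) →
      ∀ c : Fin 3 → F2, Fintype.linearCombination F2 ![u, v, w] c = 0 → c = 0 := by
    intro u v w hh c hc
    rw [Fintype.linearCombination_apply, Fin.sum_univ_three] at hc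
    simp only [Matrix.cons_val_zero, Matrix.cons_val_one, Matrix.cons_val_two, Matrix.tail_cons,
      Matrix.head_cons] at hc
    obtain ⟨r0, r1, r2⟩ := hh _ _ _ hc
    funext i; fin_cases i <;> assumption
  obtain ⟨g, hg⟩ := move ![p, a, b] ![e0, A, B] (conv p a b hind) (conv e0 A B hind') fun c => by
    simp only [Fintype.linearCombination_apply, Fin.sum_univ_three, Matrix.cons_val_zero, Matrix.cons_val_one,
      Matrix.cons_val_two, Matrix.tail_cons, Matrix.head_cons, qf_comb3, h1, h2, h3, h4, h5, h6]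
  obtain ⟨h, hh, hfix⟩ := move_mem hg hU fun i => by
    fin_cases i
    exacts [hU0, hUA, hUB]
  exact ⟨h, hh, hfix 0, hfix 1, hfix 2⟩

theorem indep_pair {q u v : V} (hq : q ≠ 0) (hu : bf q u = 0) (hv : bf q v = 0) (huv : bf u v = 1) :
    ∀ i j k : F2, i • q + j • u + k • v = 0 → i = 0 ∧ j = 0 ∧ k = 0 := by
  intro i j k hc
  have h1 := congrArg (fun w => bf w v) hc
  have h2 := congrArg (fun w => bf w u) hc
  simp only [bf_add_left, bf_smul_left, hv, huv, hu, bf_comm v u, bf_self, bf_zero_left] at h1 h2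
  simp only [mul_zero, mul_one, zero_add, add_zero] at h1 h2
  rw [h1, h2, zero_smul, zero_smul, add_zero, add_zero] at hc
  exact ⟨(smul_eq_zero.mp hc).resolve_right hq, h1, h2⟩

theorem std_pair {p a b : V} (hq : qf p = 0) (hp : p ≠ 0) (ha : qf a = 1) (hb : qf b = 1) (hpa : bf p a = 0)
    (hpb : bf p b = 0) (hab : bf a b = 1) : ∃ g ∈ Om, g.1 p = e0 ∧ g.1 a = d0 ∧ g.1 b = d1 := by
  obtain ⟨q0, -, -, -, qd, qd', qu⟩ := std_q
  obtain ⟨-, -, -, -, -, b6, b7, b8, -, -, bu, bu', bu''⟩ := std_bf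
  exact std_three (indep_pair hp hpa hpb hab) (indep_pair std_ne.1 b6 b7 b8) (hq.trans q0.symm) (ha.trans qd.symm)
    (hb.trans qd'.symm) (hpa.trans b6.symm) (hpb.trans b7.symm) (hab.trans b8.symm) qu bu bu' bu''

theorem std_triple {p a b : V} (hind : ∀ i j k : F2, i • p + j • a + k • b = 0 → i = 0 ∧ j = 0 ∧ k = 0)
    (hq : qf p = 0) (ha : qf a = 0) (hb : qf b = 0) (hpa : bf p a = 0) (hpb : bf p b = 0) (hab : bf a b = 0) :
    ∃ g ∈ Om, g.1 p = e0 ∧ g.1 a = e1 ∧ g.1 b = e2 := by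
  obtain ⟨q0, q1, q2, -, qd, -, -⟩ := std_q
  obtain ⟨b1, b2, b3, -, -, b6, -, -, b9, b10, -, -, -⟩ := std_bf
  exact std_three hind indep_012 (hq.trans q0.symm) (ha.trans q1.symm) (hb.trans q2.symm) (hpa.trans b1.symm)
    (hpb.trans b2.symm) (hab.trans b3.symm) qd b6 b9 b10

theorem map_inj_back {g : O8} {u v : V} (h : g.1 u = g.1 v) : u = v := g.1.injective h

end CfsgLib.ConwayType
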