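import Cfsg.Agent.Lib.ConwayType.Comm

/-!
Groups of Conway type: involutions acting radically at a point.
-/

set_option autoImplicit false
set_option linter.unusedSectionVars false
set_option maxRecDepth 20000

namespace CfsgLib.ConwayType

open QuadraticMap Module CfsgLargeExtra CfsgLib.SpinorNorm
open CfsgLib.HallJankoType (mem_cent conj_fix_iff)

universe u

variable {G : Type u} [Group G] [Finite G] {z x s : G} {Q Q' : Subgroup G} {π π' : G → V} {M M' : G → O8}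

/-- No linear relation. -/
def Ind (p u v : V) : Prop := ∀ i j k : F2, i • p + j • u + k • v = 0 → i = 0 ∧ j = 0 ∧ k = 0

theorem ind_or_dep {p : V} (hp : p ≠ 0) (u v : V) :
    Ind p u v ∨ u = 0 ∨ u = p ∨ v = 0 ∨ v = p ∨ v = u ∨ v = u + p := by
  by_contra hall
  push Not at hall
  obtain ⟨hn, h1, h2, h3, h4, h5, h6⟩ := hall
  refine hn fun i j k h => ?_
  rcases F2_cases i with rfl | rfl <;> rcases F2_cases j with rfl | rfl <;> rcases F2_cases k with rfl | rfl <;>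
    simp only [zero_smul, one_smul, zero_add, add_zero] at h
  · exact ⟨rfl, rfl, rfl⟩
  · exact absurd h h3
  · exact absurd h h1
  · exact absurd (by rw [← add_zero v, ← h, add_comm u v, ← add_assoc, V_add_self, zero_add]) h5
  · exact absurd h hp
  · exact absurd (by rw [← add_zero v, ← h, add_comm p v, ← add_assoc, V_add_self, zero_add]) h4
  · exact absurd (by rw [← add_zero u, ← h, add_comm p u, ← add_assoc, V_add_self, zero_add]) h2
  · exact absurd (by rw [← add_zero v, ← h, show v + (p + u + v) = u + p + (v + v) by abel, V_add_self, add_zero]) h6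

/-- Dual vectors for a family without relation. -/
theorem Ind.exists_dual2 {p u v : V} (h : Ind p u v) (i j : F2) :
    ∃ w, bf w p = 0 ∧ bf w u = i ∧ bf w v = j := by
  have one : ∀ {a b : V}, (∀ r r' : F2, a ≠ r • p + r' • b) → ∃ w, bf w p = 0 ∧ bf w a = 1 ∧ bf w b = 0 := by
    intro a b hab
    by_contra hno
    push Not at hno
    obtain ⟨r, hr⟩ := mem_span_of_perp_all ![p, b] (v := a) fun w hw => by
      rcases F2_cases (bf w a) with e | e
      · rw [bf_comm, e]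
      · exact absurd (show bf w b = 0 by rw [bf_comm]; exact hw 1) (hno w (by rw [bf_comm]; exact hw 0) e)
    rw [Fin.sum_univ_two] at hr
    exact hab _ _ hr
  obtain ⟨w1, a1, a2, a3⟩ := one (a := u) (b := v) fun r r' e =>
    one_ne_zero (h r 1 r' (by rw [one_smul, e, show r • p + (r • p + r' • v) + r' • v =
      r • p + r • p + (r' • v + r' • v) by abel, V_add_self, V_add_self, add_zero])).2.1
  obtain ⟨w2, c1, c2, c3⟩ := one (a := v) (b := u) fun r r' e =>
    one_ne_zero (h r r' 1 (by rw [one_smul, e, V_add_self])).2.2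
  refine ⟨i • w1 + j • w2, ?_, ?_, ?_⟩ <;> simp [bf_add_left, bf_smul_left, a1, a2, a3, c1, c2, c3]

/-- The image of a conjugation by a noncentral element. -/
theorem ST.exists_lift_pt (h : ST z Q π M) {c : V} (hc : qf c = 0) (hc0 : c ≠ 0) : ∃ a ∈ h.S, π a = c := by
  obtain ⟨a, ha, rfl⟩ := h.π_surj c
  exact ⟨a, ⟨ha, (h.sq a ha).mpr hc, hc0⟩, rfl⟩

/-- An involution of `C(z)` acting radically at a displacement commutes with a lift of the point. -/
theorem ST.point_of_center (h : ST z Q π M) {y : G} (hyz : y * z = z * y) (hyy : y * y = 1) {p w : V}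
    (hp : qf p = 0) (hp0 : p ≠ 0) (hw : (M y).1 w + w = p) : ∃ x ∈ h.S, π x = p ∧ y * x = x * y := by
  obtain ⟨q, hq, rfl⟩ := h.π_surj w
  have hq' := h.nor_mem hyz hq
  have hπ : π (y * q * y⁻¹ * q⁻¹) = p := by
    rw [h.π_mul _ hq' _ (inv_mem hq), h.M_act y hyz q hq, h.π_inv hq, hw]
  have hxQ : y * q * y⁻¹ * q⁻¹ ∈ Q := mul_mem hq' (inv_mem hq)
  have hxx := (h.sq _ hxQ).mpr (by rw [hπ, hp])
  refine ⟨_, ⟨hxQ, hxx, by rw [hπ]; exact hp0⟩, hπ, conj_fix_iff.mp ?_⟩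
  rw [eq_comm, show y * (y * q * y⁻¹ * q⁻¹) * y⁻¹ = (y * y) * q * y⁻¹ * (q⁻¹ * y⁻¹) by group,
    hyy, one_mul]
  have hy' : y⁻¹ = y := inv_eq_of_mul_eq_one_right hyy
  have hinv : (y * q * y⁻¹ * q⁻¹)⁻¹ = y * q * y⁻¹ * q⁻¹ := inv_eq_of_mul_eq_one_right hxx
  conv_lhs => rw [← hinv]
  rw [hy', show (y * q * y * q⁻¹)⁻¹ = q * y⁻¹ * q⁻¹ * y⁻¹ by group, hy']
  group

/-- A noncentral involution of `Q` gives a pair. -/
theorem ST.pr_of (h : ST z Q π M) {p : G} (hp : p ∈ h.S) :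
    ∃ k : G, k * z * k⁻¹ = p ∧ Pr z p Q (CfsgLargeExtra.cj k Q) π (fun a => π (k⁻¹ * a * k)) M
      (fun a => M (k⁻¹ * a * k)) := by
  obtain ⟨k, hk⟩ := isConj_iff.mp (h.isConj_S hp)
  subst hk
  exact ⟨k, rfl, h, h.conjBy k, hp.1, h.symm_mem hp.1, fun e => hp.2.2 (by rw [e, h.π_z])⟩

namespace Pr

variable (P : Pr z x Q Q' π π' M M')
include P

theorem U_conj {u : G} (hs : s ∈ Q) (hu : u ∈ P.U) : s * u * s⁻¹ ∈ P.U := by
  obtain ⟨hQ, hp⟩ := P.mem_U_iff.mp hu
  refine P.mem_U_iff.mpr ⟨mul_mem (mul_mem hs hQ) (inv_mem hs), ?_⟩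
  rwa [P.h.π_mul _ (mul_mem hs hQ) _ (inv_mem hs), P.h.π_mul _ hs _ hQ, P.h.π_inv hs, add_comm (π s) (π u), add_assoc,
    V_add_self, add_zero]

theorem decompose (hs : s ∈ Q) (hsp : bf (π s) (π x) = 1) {y : G} (hyz : y * z = z * y) (hyx : y * x = x * y)
    (hperp : ∀ v, bf v (π x) = 0 → Eqp (π x) v ((M y).1 v)) :
    ∃ a b, a ∈ Q ∧ a * x = x * a ∧ b ∈ Q' ∧ b * z = z * b ∧ y = a * b := by
  have hfix := P.fix_c hyz hyx
  obtain ⟨b, hb, hbz, hv⟩ := P.dl_surj hs hsp (v := π s + (M y).1 (π s)) (by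
    have e := bf_map (M y) (π s) (π x)
    rw [hfix] at e
    rw [bf_add_left, e]
    exact (show ∀ c : F2, c + c = 0 by decide) _)
  have hM : M y = M b := by
    refine P.eq_of_radical hsp hfix (P.fix_p hb hbz) hperp (fun v hv => P.perp_cases hb hbz hv) ?_
    have := (Eqp.refl (π x) (π s)).add hv
    rwa [P.dl_eq hs hbz, ← add_assoc, V_add_self, zero_add, ← add_assoc, V_add_self, zero_add] at this
  refine ⟨y * b⁻¹, b, ?_, Commute.mul_left hyx (Commute.inv_left (P.h'.es.comm b hb)), hb, hbz, by group⟩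
  have hz : y * b⁻¹ * z = z * (y * b⁻¹) := Commute.mul_left hyz (Commute.inv_left hbz)
  rw [← P.h.M_ker _ hz, P.h.M_mul _ _ hyz (Commute.inv_left hbz), P.h.M_inv hbz, hM, mul_inv_cancel]

theorem sq_ab {a b : G} (ha : a ∈ Q) (hax : a * x = x * a) (hb : b ∈ Q') (hbz : b * z = z * b) :
    a * b * (a * b) = a * b * a⁻¹ * b⁻¹ * (a * a) * (b * b) := by
  have hc := P.comm_mem ha hax hb hbz
  have h1 : b * a = a * b * a⁻¹ * b⁻¹ * (a * b) := by rw [← P.comm_swap ha hax hb hbz]; group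
  have h2 := P.U_central hc (P.h.es.comm a ha) hax
  calc a * b * (a * b) = a * (b * a) * b := by group
    _ = a * (a * b * a⁻¹ * b⁻¹) * (a * b) * b := by rw [h1]; group
    _ = a * b * a⁻¹ * b⁻¹ * (a * a) * (b * b) := by rw [← h2]; group

theorem qf_dl (hs : s ∈ Q) {b : G} (hbz : b * z = z * b) : bf (π s) (P.dl s b) = qf (P.dl s b) := by
  have e : (M b).1 (π s) = π s + P.dl s b := by rw [P.dl_eq hs hbz, ← add_assoc, V_add_self, zero_add]
  have h1 := (M b).2 (π s)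
  rw [e, qf_add, add_assoc, add_eq_left] at h1
  exact (show ∀ a b : F2, a + b = 0 → b = a by decide) _ _ h1

/-- The action of the part at `x`, on all vectors. -/
theorem M_full (hs : s ∈ Q) (hsp : bf (π s) (π x) = 1) {b : G} (hb : b ∈ Q') (hbz : b * z = z * b) (v : V) :
    (M b).1 v = v + (bf v (P.dl s b) + bf v (π x) * qf (P.dl s b)) • π x + bf v (π x) • P.dl s b := by
  rcases F2_cases (bf v (π x)) with hv | hv
  · rw [hv, zero_mul, add_zero, zero_smul, add_zero, P.act hs hsp hb hbz hv]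
  · have hw : bf (v + π s) (π x) = 0 := by rw [bf_add_left, hv, hsp]; decide
    have e : (M b).1 (π s) = π s + P.dl s b := by rw [P.dl_eq hs hbz, ← add_assoc, V_add_self, zero_add]
    have h1 := P.act hs hsp hb hbz hw
    rw [map_add, e, bf_add_left, P.qf_dl hs hbz] at h1
    rw [hv, one_mul, one_smul]
    generalize (bf v (P.dl s b) + qf (P.dl s b)) • π x = R at h1 ⊢
    calc (M b).1 v = (M b).1 v + (π s + P.dl s b) + (π s + P.dl s b) := by rw [add_assoc, V_add_self, add_zero]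
      _ = v + π s + R + (π s + P.dl s b) := by rw [h1]
      _ = v + R + P.dl s b + (π s + π s) := by abel
      _ = v + R + P.dl s b := by rw [V_add_self, add_zero]

theorem dl_of_M (hs : s ∈ Q) {b b' : G} (hbz : b * z = z * b) (hbz' : b' * z = z * b') (e : M b = M b') :
    P.dl s b = P.dl s b' := by
  rw [P.dl_eq hs hbz, P.dl_eq hs hbz', e]

theorem dl'_qf {t : G} (ht : t ∈ Q') (htp : bf (π' t) (π' z) = 1) {a : G} (ha : a ∈ Q) (hax : a * x = x * a) :
    qf (P.symm.dl t a) = qf (π a) := by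
  have h1 := P.symm.sq_B ht htp ha hax
  have h2 := P.h.sq a ha
  rcases F2_cases (qf (π a)) with e | e <;> rcases F2_cases (qf (P.symm.dl t a)) with e' | e' <;> rw [e, e'] <;>
    rw [e] at h2 <;> rw [e'] at h1
  · exact absurd (h1.mp (h2.mpr rfl)) one_ne_zero
  · exact absurd (h2.mp (h1.mpr rfl)) one_ne_zero

theorem dl'_bf {t : G} (ht : t ∈ Q') (htp : bf (π' t) (π' z) = 1) {a a' : G} (ha : a ∈ Q) (hax : a * x = x * a)
    (ha' : a' ∈ Q) (hax' : a' * x = x * a') : bf (P.symm.dl t a) (P.symm.dl t a') = bf (π a) (π a') := by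
  have hm := P.dl'_qf ht htp (mul_mem ha ha') (Commute.mul_left hax hax')
  rw [(P.symm.dl_mul ht ha hax ha' hax').qf_eq P.symm.p_q (by
      rw [bf_add_left, P.symm.dl_perp ht ha hax, P.symm.dl_perp ht ha' hax', add_zero]),
    P.h.π_mul a ha a' ha', qf_add, qf_add, P.dl'_qf ht htp ha hax, P.dl'_qf ht htp ha' hax', add_right_inj] at hm
  exact hm

/-- The commutator with an element of `Q'` moving `z` realises the same vector. -/
theorem tr_of (hs : s ∈ Q) (hsp : bf (π s) (π x) = 1) {t : G} (ht : t ∈ Q') (htp : bf (π' t) (π' z) = 1) {a : G}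
    (ha : a ∈ Q) (hax : a * x = x * a) :
    t * a * t⁻¹ * a⁻¹ ∈ Q' ∧ t * a * t⁻¹ * a⁻¹ * z = z * (t * a * t⁻¹ * a⁻¹) ∧
      Eqp (π x) (π a) (P.dl s (t * a * t⁻¹ * a⁻¹)) := by
  have hb : t * a * t⁻¹ * a⁻¹ ∈ Q' := by
    rw [show t * a * t⁻¹ * a⁻¹ = t * (a * t⁻¹ * a⁻¹) by group]
    exact mul_mem ht (P.h'.nor_mem hax (inv_mem ht))
  have hbz : t * a * t⁻¹ * a⁻¹ * z = z * (t * a * t⁻¹ * a⁻¹) := (P.symm.comm_x hb).mpr (P.symm.dl_perp ht ha hax)
  refine ⟨hb, hbz, P.uniq fun c hc hcx => ?_⟩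
  rw [← P.rel_dl hs hsp hb hbz c hc hcx, P.kap_eq ht htp hc hcx hb hbz]
  show _ = bf (P.symm.dl t a) (P.symm.dl t c)
  rw [P.dl'_bf ht htp ha hax hc hcx, bf_comm]

omit [Finite G] in
/-- The second type of involution. -/
def Typ (P : Pr z x Q Q' π π' M M') (s y : G) : Prop :=
  ∃ a b, a ∈ Q ∧ a * x = x * a ∧ b ∈ Q' ∧ b * z = z * b ∧ y = a * b ∧
    qf (π a) = 1 ∧ qf (P.dl s b) = 1 ∧ bf (π a) (P.dl s b) = 1

omit [Finite G] in
/-- The third type of involution. -/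
def Tri (P : Pr z x Q Q' π π' M M') (s y : G) : Prop :=
  ∃ a b, a ∈ Q ∧ a * x = x * a ∧ b ∈ Q' ∧ b * z = z * b ∧ y = a * b ∧
    qf (π a) = 0 ∧ qf (P.dl s b) = 0 ∧ bf (π a) (P.dl s b) = 0 ∧ Ind (π x) (π a) (P.dl s b)

theorem invol_cases (hs : s ∈ Q) (hsp : bf (π s) (π x) = 1) {a b : G} (ha : a ∈ Q) (hax : a * x = x * a) (hb : b ∈ Q')
    (hbz : b * z = z * b) (hyy : a * b * (a * b) = 1) (h1 : a * b ≠ 1) : IsConj z (a * b) ∨ P.Typ s (a * b) ∨ P.Tri s (a * b) := by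
  have hα := (P.comm_x ha).mp hax
  have hδ := P.dl_perp hs hb hbz
  rw [P.sq_ab ha hax hb hbz, P.comm_eq hs hsp ha hax hb hbz] at hyy
  obtain ⟨hn1, hnz, hnx⟩ := P.zx_ne
  have hzxx : z * x * x = z := by rw [mul_assoc, P.xx, mul_one]
  have hzxz : z * x * z = x := by rw [P.zx, mul_assoc, P.h.zz, mul_one]
  have ha2 := P.h.es.sq a ha
  have hb2 := P.h'.es.sq b hb
  rcases F2_cases (bf (π a) (P.dl s b)) with hB | hB
  · rw [if_pos hB, one_mul] at hyy
    obtain ⟨ea, eb⟩ : a * a = 1 ∧ b * b = 1 := by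
      rcases ha2 with e | e <;> rcases hb2 with e' | e' <;> rw [e, e'] at hyy
      · exact ⟨e, e'⟩
      · rw [one_mul] at hyy; exact absurd hyy P.x1
      · rw [mul_one] at hyy; exact absurd hyy P.h.es.ne
      · exact absurd hyy hn1
    have hab : a * b = b * a := by
      have := P.comm_eq hs hsp ha hax hb hbz
      rw [if_pos hB] at this
      exact mul_inv_eq_one.mp (by rw [← this]; group)
    have hyy' : a * b * (a * b) = 1 := by
      rw [show a * b * (a * b) = a * (b * a) * b by group, ← hab, show a * (a * b) * b = a * a * (b * b) by group,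
        ea, eb, one_mul]
    have hx : ∀ c, c ∈ Q' → c * c = 1 → c ≠ 1 → IsConj z c := fun c hc hcc hc1 =>
      (P.h.isConj_S P.memS).trans (P.h'.isConj_Q hc hcc hc1)
    have hsmallb : P.dl s b = 0 ∨ P.dl s b = π x → IsConj z (a * b) := fun e =>
      P.h.isConj_Q (mul_mem ha (P.U_le (P.dl_inj hs hsp hb hbz (by
        rcases e with e | e <;> rw [e]
        exacts [Eqp.refl _ _, Or.inr (zero_add _).symm]))).1) hyy' h1
    rcases ind_or_dep P.p_ne (π a) (P.dl s b) with hI | e | e | e | e | e | e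
    · exact Or.inr (Or.inr ⟨a, b, ha, hax, hb, hbz, rfl, (P.h.sq a ha).mp ea, (P.sq_B hs hsp hb hbz).mp eb, hB, hI⟩)
    all_goals left
    · exact hx _ (mul_mem (P.U_mem' (P.mem_U_iff.mpr ⟨ha, Or.inl e⟩)).1 hb) hyy' h1
    · exact hx _ (mul_mem (P.U_mem' (P.mem_U_iff.mpr ⟨ha, Or.inr e⟩)).1 hb) hyy' h1
    · exact hsmallb (Or.inl e)
    · exact hsmallb (Or.inr e)
    all_goals
      have hq : s * b * s⁻¹ * b⁻¹ ∈ Q := by
        rw [show s * b * s⁻¹ * b⁻¹ = s * (b * s⁻¹ * b⁻¹) by group]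
        exact mul_mem hs (P.h.nor_mem hbz (inv_mem hs))
      have hu : a * (s * b * s⁻¹ * b⁻¹)⁻¹ ∈ P.U := by
        refine P.mem_U_iff.mpr ⟨mul_mem ha (inv_mem hq), ?_⟩
        rw [P.h.π_mul _ ha _ (inv_mem hq), P.h.π_inv hq]
        show π a + P.dl s b = 0 ∨ π a + P.dl s b = π x
        rw [e]
        first
          | exact Or.inl (V_add_self _)
          | exact Or.inr (by rw [← add_assoc, V_add_self, zero_add])
      have hu' := P.U_conj (inv_mem hs) hu
      rw [inv_inv] at hu'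
      have he : a * b = s * (s⁻¹ * (a * (s * b * s⁻¹ * b⁻¹)⁻¹) * s * b) * s⁻¹ := by group
      set c := s⁻¹ * (a * (s * b * s⁻¹ * b⁻¹)⁻¹) * s * b with hc
      refine (hx c (mul_mem (P.U_mem' hu').1 hb) ?_ fun e' => h1 ?_).trans (isConj_iff.mpr ⟨s, he.symm⟩)
      · rw [← conj_eq_one_iff (a := s), show s * (c * c) * s⁻¹ = s * c * s⁻¹ * (s * c * s⁻¹) by group, ← he, hyy']
      · rw [he, e', mul_one, mul_inv_cancel]
  · right; left
    rw [if_neg (by rw [hB]; exact one_ne_zero)] at hyy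
    obtain ⟨ea, eb⟩ : a * a ≠ 1 ∧ b * b ≠ 1 := by
      rcases ha2 with e | e <;> rcases hb2 with e' | e' <;> rw [e, e'] at hyy
      · rw [mul_one, mul_one] at hyy; exact absurd hyy hn1
      · rw [mul_one, hzxx] at hyy; exact absurd hyy P.h.es.ne
      · rw [mul_one, hzxz] at hyy; exact absurd hyy P.x1
      · exact ⟨by rw [e]; exact P.h.es.ne, by rw [e']; exact P.x1⟩
    exact ⟨a, b, ha, hax, hb, hbz, rfl, (F2_cases _).resolve_left fun e => ea ((P.h.sq a ha).mpr e),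
      (F2_cases _).resolve_left fun e => eb ((P.sq_B hs hsp hb hbz).mpr e), hB⟩

/-- Elements with configurations matched by the stabiliser of the point are conjugate in it. -/
theorem pair_conj (hs : s ∈ Q) (hsp : bf (π s) (π x) = 1) {a b a' b' : G} (ha : a ∈ Q) (hax : a * x = x * a)
    (hb : b ∈ Q') (hbz : b * z = z * b) (ha' : a' ∈ Q) (hax' : a' * x = x * a') (hb' : b' ∈ Q')
    (hbz' : b' * z = z * b') (hI : Ind (π x) (π a') (P.dl s b')) {g : O8} (hg : g ∈ Om) (hgp : g.1 (π x) = π x)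
    (hga : g.1 (π a) = π a') (hgb : Eqp (π x) (g.1 (P.dl s b)) (P.dl s b')) :
    ∃ k : G, k * z = z * k ∧ k * x = x * k ∧ k * (a * b) * k⁻¹ = a' * b' := by
  obtain ⟨c, hcz, hcx, hcM⟩ := P.exists_lift hg hgp
  have hca : π (c * a * c⁻¹) = π a' := by rw [P.h.M_act c hcz a ha, hcM, hga]
  obtain ⟨hb1, hbz1⟩ := P.conj_mem_B hcz hcx hb hbz
  have hcb : Eqp (π x) (P.dl s b') (P.dl s (c * b * c⁻¹)) := by
    have h1 := P.dl_conj hs hsp hcz hcx hb hbz
    rw [hcM] at h1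
    exact hgb.symm.trans h1
  obtain ⟨u, hu, hub⟩ := P.dl_cong hs hsp hb' hbz' hb1 hbz1 hcb
  have habs : ∀ v ∈ P.U, ∃ q ∈ Q, q * x = x * q ∧ q * (a' * b' * v) * q⁻¹ = a' * b' := by
    intro v hv
    have hfix : ∀ q ∈ Q, q * x = x * q → q * v * q⁻¹ = v := fun q hq hqx =>
      conj_fix_iff.mpr (P.U_central hv (P.h.es.comm q hq) hqx).symm
    have hgo : ∀ w, bf w (π x) = 0 → (if bf w (π a') = 0 then 1 else z) * (if bf w (P.dl s b') = 0 then 1 else z * x)
        * v = 1 → ∃ q ∈ Q, q * x = x * q ∧ q * (a' * b' * v) * q⁻¹ = a' * b' := by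
      intro w hw he
      obtain ⟨q, hq, rfl⟩ := P.h.π_surj w
      have hqx := (P.comm_x hq).mpr hw
      refine ⟨q, hq, hqx, ?_⟩
      rw [show q * (a' * b' * v) * q⁻¹ = q * a' * q⁻¹ * (q * b' * q⁻¹ * b'⁻¹) * b' * (q * v * q⁻¹) by group,
        hfix q hq hqx, P.comm_eq hs hsp hq hqx hb' hbz', P.h.conj_Q hq ha']
      set d := if bf (π q) (P.dl s b') = 0 then (1 : G) else z * x with hd
      have hdU : d ∈ P.U := by
        rw [hd]; split_ifs
        exacts [one_mem _, mul_mem P.zU P.xU]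
      calc (if bf (π q) (π a') = 0 then a' else a' * z) * d * b' * v
          = a' * ((if bf (π q) (π a') = 0 then 1 else z) * (d * b')) * v := by split_ifs <;> group
        _ = a' * ((if bf (π q) (π a') = 0 then 1 else z) * (b' * d)) * v := by
          rw [P.U_central hdU hbz' (P.h'.es.comm b' hb')]
        _ = a' * ((if bf (π q) (π a') = 0 then 1 else z) * b') * d * v := by group
        _ = a' * (b' * (if bf (π q) (π a') = 0 then 1 else z)) * d * v := by
          split_ifs <;> simp [hbz']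
        _ = a' * b' * ((if bf (π q) (π a') = 0 then 1 else z) * d * v) := by group
        _ = a' * b' := by rw [he, mul_one]
    have pick : ∀ i j : F2, (if i = 0 then 1 else z) * (if j = 0 then 1 else z * x) * v = 1 →
        ∃ q ∈ Q, q * x = x * q ∧ q * (a' * b' * v) * q⁻¹ = a' * b' := fun i j he => by
      obtain ⟨w, w1, w2, w3⟩ := hI.exists_dual2 i j
      exact hgo w w1 (by rw [w2, w3]; exact he)
    have hzxzx : z * x * (z * x) = 1 := (P.U_le (mul_mem P.zU P.xU)).2.2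
    rcases hv with e | e | e | e
    · exact pick 0 0 (by simp [e])
    · exact pick 1 0 (by simp [e, P.h.zz])
    · exact pick 1 1 (by simp only [one_ne_zero, if_false]; rw [e, ← mul_assoc z z x, P.h.zz, one_mul, P.xx])
    · exact pick 0 1 (by simp [e, hzxzx])
  have key : c * (a * b) * c⁻¹ = c * a * c⁻¹ * (c * b * c⁻¹) := by group
  obtain ⟨v, hv, hval⟩ : ∃ v ∈ P.U, c * (a * b) * c⁻¹ = a' * b' * v := by
    rw [key, hub]
    rcases P.h.π_eq ha' (P.h.nor_mem hcz ha) hca.symm with e | e <;> rw [e]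
    · exact ⟨u, hu, by group⟩
    · refine ⟨z * u, mul_mem P.zU hu, ?_⟩
      rw [show a' * z * (b' * u) = a' * (z * b') * u by group, ← hbz']; group
  obtain ⟨q, hq, hqx, hqv⟩ := habs v hv
  refine ⟨q * c, Commute.mul_left (P.h.es.comm q hq) hcz, Commute.mul_left hqx hcx, ?_⟩
  rw [show q * c * (a * b) * (q * c)⁻¹ = q * (c * (a * b) * c⁻¹) * q⁻¹ by group, hval, hqv]

theorem typ_ind {a b : G} (hs : s ∈ Q) (ha : a ∈ Q) (hax : a * x = x * a) (hb : b ∈ Q') (hbz : b * z = z * b)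
    (hab : bf (π a) (P.dl s b) = 1) : Ind (π x) (π a) (P.dl s b) :=
  indep_pair P.p_ne (by rw [bf_comm]; exact (P.comm_x ha).mp hax) (by rw [bf_comm]; exact P.dl_perp hs hb hbz) hab

theorem typ_conj (hs : s ∈ Q) (hsp : bf (π s) (π x) = 1) {y y' : G} (hy : P.Typ s y) (hy' : P.Typ s y') :
    ∃ k : G, k * z = z * k ∧ k * x = x * k ∧ k * y * k⁻¹ = y' := by
  obtain ⟨a, b, ha, hax, hb, hbz, rfl, qa, qb, hab⟩ := hy
  obtain ⟨a', b', ha', hax', hb', hbz', rfl, qa', qb', hab'⟩ := hy'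
  have perp : ∀ {v : V}, bf v (π x) = 0 → bf (π x) v = 0 := fun h => by rw [bf_comm, h]
  obtain ⟨g, hg, g0, g1, g2⟩ := std_pair P.p_q P.p_ne qa qb (perp ((P.comm_x ha).mp hax))
    (perp (P.dl_perp hs hb hbz)) hab
  obtain ⟨k, hk, k0, k1, k2⟩ := std_pair P.p_q P.p_ne qa' qb' (perp ((P.comm_x ha').mp hax'))
    (perp (P.dl_perp hs hb' hbz')) hab'
  have hm : ∀ {v v' w : V}, g.1 v = w → k.1 v' = w → (k⁻¹ * g).1 v = v' := fun {v v' w} e e' => by
    show k.1.symm (g.1 v) = v'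
    rw [e, ← e', LinearEquiv.symm_apply_apply]
  exact P.pair_conj hs hsp ha hax hb hbz ha' hax' hb' hbz' (P.typ_ind hs ha' hax' hb' hbz' hab')
    (mul_mem (inv_mem hk) hg) (hm g0 k0) (hm g1 k1) (by rw [hm g2 k2]; exact Eqp.refl _ _)

theorem tri_conj (hs : s ∈ Q) (hsp : bf (π s) (π x) = 1) {y y' : G} (hy : P.Tri s y) (hy' : P.Tri s y') :
    ∃ k : G, k * z = z * k ∧ k * x = x * k ∧ k * y * k⁻¹ = y' := by
  obtain ⟨a, b, ha, hax, hb, hbz, rfl, qa, qb, hab, hI⟩ := hy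
  obtain ⟨a', b', ha', hax', hb', hbz', rfl, qa', qb', hab', hI'⟩ := hy'
  have perp : ∀ {v : V}, bf v (π x) = 0 → bf (π x) v = 0 := fun h => by rw [bf_comm, h]
  obtain ⟨g, hg, g0, g1, g2⟩ := std_triple hI P.p_q qa qb (perp ((P.comm_x ha).mp hax))
    (perp (P.dl_perp hs hb hbz)) hab
  obtain ⟨k, hk, k0, k1, k2⟩ := std_triple hI' P.p_q qa' qb' (perp ((P.comm_x ha').mp hax'))
    (perp (P.dl_perp hs hb' hbz')) hab'
  have hm : ∀ {v v' w : V}, g.1 v = w → k.1 v' = w → (k⁻¹ * g).1 v = v' := fun {v v' w} e e' => by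
    show k.1.symm (g.1 v) = v'
    rw [e, ← e', LinearEquiv.symm_apply_apply]
  exact P.pair_conj hs hsp ha hax hb hbz ha' hax' hb' hbz' hI'
    (mul_mem (inv_mem hk) hg) (hm g0 k0) (hm g1 k1) (by rw [hm g2 k2]; exact Eqp.refl _ _)

/-- Elements of the second and third type exist. -/
theorem exists_typ (hs : s ∈ Q) (hsp : bf (π s) (π x) = 1) :
    (∃ t, P.Typ s t) ∧ ∃ t, P.Tri s t := by
  obtain ⟨-, q1, q2, -, qd, qd', -⟩ := std_q
  obtain ⟨b1, b2, b3, -, -, b6, b7, b8, -, -, -, -, -⟩ := std_bf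
  obtain ⟨g, -, hgp⟩ := std_one P.p_q P.p_ne
  have hback : ∀ v, bf e0 v = 0 → bf (g.1.symm v) (π x) = 0 := fun v hv => by
    rw [← bf_map g, LinearEquiv.apply_symm_apply, hgp, bf_comm, hv]
  have hq : ∀ v, qf (g.1.symm v) = qf v := fun v => by
    have := g.2 (g.1.symm v); rw [LinearEquiv.apply_symm_apply] at this; exact this.symm
  have make : ∀ A B : V, bf e0 A = 0 → bf e0 B = 0 → ∃ a b, a ∈ Q ∧ a * x = x * a ∧ b ∈ Q' ∧ b * z = z * b ∧
      g.1 (π a) = A ∧ Eqp e0 B (g.1 (P.dl s b)) := by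
    intro A B hA hB
    obtain ⟨a, ha, hπa⟩ := P.h.π_surj (g.1.symm A)
    obtain ⟨b, hb, hbz, hd⟩ := P.dl_surj hs hsp (hback B hB)
    have := hd.map g
    rw [hgp, LinearEquiv.apply_symm_apply] at this
    exact ⟨a, b, ha, (P.comm_x ha).mpr (by rw [hπa]; exact hback A hA), hb, hbz,
      by rw [hπa, LinearEquiv.apply_symm_apply], this⟩
  constructor
  · obtain ⟨a, b, ha, hax, hb, hbz, eA, eB⟩ := make d0 d1 b6 b7
    refine ⟨a * b, a, b, ha, hax, hb, hbz, rfl, by rw [← g.2 (π a), eA, qd], ?_, ?_⟩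
    · rw [← g.2 (P.dl s b), eB.qf_eq std_q.1 (by rw [bf_comm]; exact b7), qd']
    · rw [← bf_map g, eA, eB.bf_eq (by rw [bf_comm]; exact b6), b8]
  · obtain ⟨a, b, ha, hax, hb, hbz, eA, eB⟩ := make e1 e2 b1 b2
    refine ⟨a * b, a, b, ha, hax, hb, hbz, rfl, by rw [← g.2 (π a), eA, q1], ?_, ?_, ?_⟩
    · rw [← g.2 (P.dl s b), eB.qf_eq std_q.1 (by rw [bf_comm]; exact b2), q2]
    · rw [← bf_map g, eA, eB.bf_eq (by rw [bf_comm]; exact b1), b3]
    · intro i j k h
      have h' := congrArg g.1 h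
      simp only [map_add, map_smul, hgp, eA, map_zero] at h'
      rcases eB with e | e <;> rw [e] at h'
      · exact indep_012 i j k h'
      · obtain ⟨r0, r1, r2⟩ := indep_012 (i + k) j k (by rw [← h', add_smul, smul_add]; abel)
        exact ⟨by rwa [r2, add_zero] at r0, r1, r2⟩

end Pr

end CfsgLib.ConwayType
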