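import Cfsg.Agent.Lib.ConwayType.Axis
import Cfsg.Agent.Lib.ConwayType.Invol

/-!
Groups of Conway type: every involution is conjugate to one acting radically at a point; at most three classes.
-/

set_option autoImplicit false
set_option linter.unusedSectionVars false
set_option maxRecDepth 20000

namespace CfsgLib.ConwayType

open QuadraticMap Module CfsgLargeExtra CfsgLib.SpinorNorm
open CfsgLib.HallJankoType (mem_cent conj_fix_iff)

universe u

variable {G : Type u} [Group G] [Finite G] {z x s : G} {Q Q' : Subgroup G} {π π' : G → V} {M M' : G → O8}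

omit [Finite G] in
/-- Acting radically at a point. -/
def ST.Rad (h : ST z Q π M) (y x : G) : Prop :=
  y * z = z * y ∧ x ∈ h.S ∧ y * x = x * y ∧ ∀ v, bf v (π x) = 0 → Eqp (π x) v ((M y).1 v)

/-- Being in the span of three vectors. -/
def Sp (p u v w : V) : Prop := ∃ i j k : F2, w = i • p + j • u + k • v

theorem Sp.add {p u v w w' : V} (h : Sp p u v w) (h' : Sp p u v w') : Sp p u v (w + w') := by
  obtain ⟨i, j, k, rfl⟩ := h
  obtain ⟨i', j', k', rfl⟩ := h'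
  exact ⟨i + i', j + j', k + k', by rw [add_smul, add_smul, add_smul]; abel⟩

theorem Sp.eqp {p u v w w' : V} (h : Sp p u v w) (e : Eqp p w w') : Sp p u v w' := by
  rcases e with e | e <;> rw [e]
  · exact h
  · exact h.add ⟨1, 0, 0, by simp⟩

/-- The linear dependence forced by the squaring relations. -/
theorem forced {p c1 c2 : V} (hI : Ind p c1 c2) (hp : qf p = 0) (h1 : qf c1 = 0) (h2 : qf c2 = 0)
    (b1 : bf p c1 = 0) (b2 : bf p c2 = 0) (b3 : bf c1 c2 = 0) {α δ g : V}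
    (hα : bf α p = 0 ∧ bf α c1 = 0 ∧ bf α c2 = 0) (hδ : bf δ p = 0 ∧ bf δ c1 = 0 ∧ bf δ c2 = 0)
    (hg : bf g p = 0 ∧ bf g c1 = 0 ∧ bf g c2 = 0)
    (r1 : qf δ = bf α δ) (r2 : qf α = bf α δ + bf δ g) (r3 : qf g = 0) :
    Sp p c1 c2 δ ∨ Sp p c1 c2 (g + α + δ) ∨ Sp p c1 c2 (g + α) := by
  obtain ⟨k, -, k0, k1, k2⟩ := std_triple hI hp h1 h2 b1 b2 b3
  have hperp : ∀ w, (bf w p = 0 ∧ bf w c1 = 0 ∧ bf w c2 = 0) →
      bf e0 (k.1 w) = 0 ∧ bf e1 (k.1 w) = 0 ∧ bf e2 (k.1 w) = 0 := fun w hw => by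
    rw [← k0, ← k1, ← k2, bf_map, bf_map, bf_map, bf_comm p, bf_comm c1, bf_comm c2]; exact hw
  have hq : ∀ w, (bf w p = 0 ∧ bf w c1 = 0 ∧ bf w c2 = 0) → qf w = (cls (k.1 w)).1 * (cls (k.1 w)).2 ∧
      (cls (k.1 w) = 0 → Sp p c1 c2 w) := fun w hw => by
    obtain ⟨t1, t2, t3⟩ := hperp w hw
    obtain ⟨f1, f2⟩ := cls_facts (k.1 w) t1 t2 t3
    refine ⟨(k.2 w).symm.trans f1, fun e => ?_⟩
    obtain ⟨a, b, c, e'⟩ := f2 e
    refine ⟨a, b, c, k.1.injective ?_⟩
    rw [e', map_add, map_add, map_smul, map_smul, map_smul, k0, k1, k2]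
  have hadd : ∀ {w w' : V}, (bf w p = 0 ∧ bf w c1 = 0 ∧ bf w c2 = 0) → (bf w' p = 0 ∧ bf w' c1 = 0 ∧ bf w' c2 = 0) →
      (bf (w + w') p = 0 ∧ bf (w + w') c1 = 0 ∧ bf (w + w') c2 = 0) := fun {w w'} a b => by
    simp only [bf_add_left, a.1, a.2.1, a.2.2, b.1, b.2.1, b.2.2, add_zero, and_self]
  have hcls : ∀ w w' : V, cls (k.1 (w + w')) = cls (k.1 w) + cls (k.1 w') := fun w w' => by
    rw [map_add]; rfl
  have hb : ∀ {w w' : V}, (bf w p = 0 ∧ bf w c1 = 0 ∧ bf w c2 = 0) → (bf w' p = 0 ∧ bf w' c1 = 0 ∧ bf w' c2 = 0) →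
      bf w w' = (cls (k.1 w)).1 * (cls (k.1 w')).2 + (cls (k.1 w)).2 * (cls (k.1 w')).1 := fun {w w'} a b => by
    have h := qf_add w w'
    rw [(hq _ (hadd a b)).1, (hq _ a).1, (hq _ b).1, hcls, Prod.fst_add, Prod.snd_add] at h
    linear_combination -h
  have hga := hadd hg hα
  have key := plane_dep (cls (k.1 (g + α))) (cls (k.1 δ)) (cls (k.1 g))
  have ea : cls (k.1 (g + α)) + cls (k.1 g) = cls (k.1 α) := by
    rw [← hcls, add_comm g α, add_assoc, V_add_self, add_zero]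
  rw [ea, ← (hq _ hδ).1, ← (hq _ hα).1, ← (hq _ hg).1, ← hb hα hδ, ← hb hg hδ] at key
  rcases key r1 (by rw [r2, bf_comm g δ]) r3 with e | e | e
  · exact Or.inl ((hq _ hδ).2 e)
  · exact Or.inr (Or.inl ((hq _ (hadd hga hδ)).2 (by rw [hcls]; exact e)))
  · exact Or.inr (Or.inr ((hq _ hga).2 e))

namespace Pr

variable (P : Pr z x Q Q' π π' M M')
include P

/-- An element of `Q'` conjugating `z` to `z * x`. -/
theorem exists_t : ∃ t ∈ Q', bf (π' t) (π' z) = 1 ∧ t * z * t⁻¹ = z * x ∧ t⁻¹ * z * t = z * x := by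
  obtain ⟨t, ht, htp, htz⟩ := P.symm.exists_s
  have htx := P.h'.es.comm t ht
  refine ⟨t, ht, htp, htz, ?_⟩
  have e : t * (z * x) * t⁻¹ = z := by
    rw [show t * (z * x) * t⁻¹ = t * z * t⁻¹ * (t * x * t⁻¹) by group, htz, conj_fix_iff.mpr htx, mul_assoc,
      P.xx, mul_one]
  calc t⁻¹ * z * t = t⁻¹ * (t * (z * x) * t⁻¹) * t := by rw [e]
    _ = z * x := by group

omit P

/-- The data of a displacement of rank four at the point of `x`. -/
structure Ax (P : Pr z x Q Q' π π' M M') (s t b2 : G) (c1 c2 v1 v2 : V) : Prop where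
  hs : s ∈ Q
  hsp : bf (π s) (π x) = 1
  ht : t ∈ Q'
  htp : bf (π' t) (π' z) = 1
  htz : t * z * t⁻¹ = z * x
  htz' : t⁻¹ * z * t = z * x
  b2z : b2 * z = z * b2
  b2x : b2 * x = x * b2
  b22 : b2 * b2 = 1
  act : ∀ v, (M b2).1 v = v + bf v c2 • c1 + bf v c1 • c2
  com : ∀ a ∈ Q, a * x = x * a → bf (π a) c1 = 0 → bf (π a) c2 = 0 → b2 * a * b2⁻¹ = a
  q1 : qf c1 = 0
  q2 : qf c2 = 0
  p1 : bf (π x) c1 = 0
  p2 : bf (π x) c2 = 0
  c12 : bf c1 c2 = 0
  w1 : bf v1 (π x) = 0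
  w2 : bf v2 (π x) = 0
  v11 : bf v1 c1 = 0
  v12 : bf v1 c2 = 1
  v21 : bf v2 c1 = 1
  v22 : bf v2 c2 = 0

namespace Ax

variable {P : Pr z x Q Q' π π' M M'} {t b2 : G} {c1 c2 v1 v2 : V} (A : Ax P s t b2 c1 c2 v1 v2)
include A

theorem ind : Ind (π x) c1 c2 := by
  intro i j k h
  have h1 := congrArg (bf v1) h
  have h2 := congrArg (bf v2) h
  simp only [bf_add_right, bf_smul_right, A.w1, A.w2, A.v11, A.v12, A.v21, A.v22, bf_zero_right, mul_zero,
    mul_one, zero_add, add_zero] at h1 h2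
  rw [h1, h2, zero_smul, zero_smul, add_zero, add_zero] at h
  exact ⟨(smul_eq_zero.mp h).resolve_right P.p_ne, h2, h1⟩

/-- Vectors moved into the line only are orthogonal to the plane. -/
theorem perp_of {v : V} (h : Eqp (π x) v ((M b2).1 v)) : bf v c1 = 0 ∧ bf v c2 = 0 := by
  rw [A.act] at h
  have key : ∀ w : V, bf w (π x) = 0 → bf w (v + bf v c2 • c1 + bf v c1 • c2) = bf w v := fun w hw =>
    h.bf_eq hw
  have k1 := key v1 A.w1
  have k2 := key v2 A.w2
  simp only [bf_add_right, bf_smul_right, A.v11, A.v12, A.v21, A.v22, mul_zero, mul_one, add_zero,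
    add_eq_left] at k1 k2
  exact ⟨k1, k2⟩

/-- The commutator with the mover. -/
theorem eta : b2 * t * b2⁻¹ * t⁻¹ ∈ Q' ∧ b2 * t * b2⁻¹ * t⁻¹ * z = z * (b2 * t * b2⁻¹ * t⁻¹) ∧
    b2 * (b2 * t * b2⁻¹ * t⁻¹) * b2⁻¹ = (b2 * t * b2⁻¹ * t⁻¹)⁻¹ := by
  have hi : b2⁻¹ = b2 := inv_eq_of_mul_eq_one_right A.b22
  refine ⟨mul_mem (P.h'.nor_mem A.b2x A.ht) (inv_mem A.ht), conj_fix_iff.mp ?_, ?_⟩
  · have hzx : b2 * (z * x) = z * x * b2 := (Commute.mul_right A.b2z A.b2x : Commute b2 (z * x))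
    calc b2 * t * b2⁻¹ * t⁻¹ * z * (b2 * t * b2⁻¹ * t⁻¹)⁻¹
        = b2 * t * b2⁻¹ * (t⁻¹ * z * t) * b2 * t⁻¹ * b2⁻¹ := by group
      _ = b2 * t * (b2⁻¹ * ((z * x) * b2)) * t⁻¹ * b2⁻¹ := by rw [A.htz']; group
      _ = b2 * (t * (z * x) * t⁻¹) * b2⁻¹ := by rw [← hzx]; group
      _ = b2 * z * b2⁻¹ := by
        have e : t * (z * x) * t⁻¹ = z := by
          rw [show t * (z * x) * t⁻¹ = t * z * t⁻¹ * (t * x * t⁻¹) by group, A.htz,
            conj_fix_iff.mpr (P.h'.es.comm t A.ht), mul_assoc, P.xx, mul_one]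
        rw [e]
      _ = z := conj_fix_iff.mpr A.b2z
  · calc b2 * (b2 * t * b2⁻¹ * t⁻¹) * b2⁻¹ = b2 * b2 * t * b2⁻¹ * t⁻¹ * b2⁻¹ := by group
      _ = t * b2 * t⁻¹ * b2⁻¹ := by rw [A.b22, one_mul, hi]
      _ = (b2 * t * b2⁻¹ * t⁻¹)⁻¹ := by group

/-- The vector of the commutator with the mover. -/
theorem eta_perp : bf (P.dl s (b2 * t * b2⁻¹ * t⁻¹)) c1 = 0 ∧ bf (P.dl s (b2 * t * b2⁻¹ * t⁻¹)) c2 = 0 := by
  obtain ⟨he, hez, hinv⟩ := A.eta
  refine A.perp_of ?_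
  have h1 := P.dl_conj A.hs A.hsp A.b2z A.b2x he hez
  rw [hinv] at h1
  have h2 := P.dl_mul A.hs he hez (inv_mem he) (Commute.inv_left hez)
  rw [mul_inv_cancel] at h2
  have h3 := h2.trans (P.dl_U A.hs (one_mem P.U)).symm
  have h4 : Eqp (π x) (P.dl s (b2 * t * b2⁻¹ * t⁻¹)) (P.dl s (b2 * t * b2⁻¹ * t⁻¹)⁻¹) := by
    have := h3.add (Eqp.refl (π x) (P.dl s (b2 * t * b2⁻¹ * t⁻¹)⁻¹))
    rwa [add_assoc, V_add_self, add_zero, zero_add] at this
  exact h4.trans h1.symm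

theorem flip {d : G} (hd : d ∈ Q') (hdz : d * z = z * d) (h1 : bf (P.dl s d) c1 = 0) (h2 : bf (P.dl s d) c2 = 0) :
    b2 * d * b2⁻¹ = if bf (P.dl s d) (P.dl s (b2 * t * b2⁻¹ * t⁻¹)) = 0 then d else d * z := by
  obtain ⟨he, hez, -⟩ := A.eta
  set η := b2 * t * b2⁻¹ * t⁻¹ with hη
  have hdp := P.dl_perp A.hs hd hdz
  obtain ⟨a, ha, hπa⟩ := P.h.π_surj (P.dl s d)
  have hax : a * x = x * a := (P.comm_x ha).mpr (by rw [hπa]; exact hdp)
  obtain ⟨hb, hbz, hab⟩ := P.tr_of A.hs A.hsp A.ht A.htp ha hax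
  set b := t * a * t⁻¹ * a⁻¹ with hbdef
  rw [hπa] at hab
  obtain ⟨u, hu, hdu⟩ := P.dl_cong A.hs A.hsp hb hbz hd hdz hab.symm
  have hu' : b2 * u * b2⁻¹ = u := conj_fix_iff.mpr (P.U_central hu A.b2z A.b2x).symm
  have hfix := A.com a ha hax (by rw [hπa]; exact h1) (by rw [hπa]; exact h2)
  have hea := P.comm_eq A.hs A.hsp ha hax he hez
  have hrel := P.rel_dl A.hs A.hsp he hez a ha hax
  rw [P.kap_eq A.ht A.htp ha hax he hez, hπa] at hrel
  change bf (π' η) (π' b) = bf (P.dl s d) (P.dl s η) at hrel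
  rw [hπa] at hea
  have heb := P.h'.conj_Q he hb
  rw [hrel] at heb
  have hb2 : b2 * b * b2⁻¹ = η * b * η⁻¹ * (a * η * a⁻¹ * η⁻¹)⁻¹ := by
    calc b2 * b * b2⁻¹ = (b2 * t * b2⁻¹ * t⁻¹) * t * (b2 * a * b2⁻¹) * t⁻¹ * (b2 * t * b2⁻¹ * t⁻¹)⁻¹ *
          (b2 * a * b2⁻¹)⁻¹ := by rw [hbdef]; group
      _ = η * t * a * t⁻¹ * η⁻¹ * a⁻¹ := by rw [hfix, ← hη]
      _ = η * b * η⁻¹ * (a * η * a⁻¹ * η⁻¹)⁻¹ := by rw [hbdef]; group
  have hzx : (z * x)⁻¹ = z * x := inv_eq_of_mul_eq_one_right (P.U_le (mul_mem P.zU P.xU)).2.2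
  rw [hdu, show b2 * (b * u) * b2⁻¹ = b2 * b * b2⁻¹ * (b2 * u * b2⁻¹) by group, hu', hb2, heb, hea, ← hdu]
  split_ifs
  · rw [inv_one, mul_one, hdu]
  · rw [hzx, hdu, show b * x * (z * x) * u = b * (x * z * x) * u by group, ← P.zx,
      mul_assoc z x x, P.xx, mul_one, mul_assoc b z u, ← (P.U_central hu rfl P.zx : u * z = z * u), ← mul_assoc]

theorem eta_q : qf (P.dl s (b2 * t * b2⁻¹ * t⁻¹)) = 0 := by
  obtain ⟨he, hez, hinv⟩ := A.eta
  have := A.flip he hez A.eta_perp.1 A.eta_perp.2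
  rw [bf_self, if_pos rfl, hinv] at this
  exact (P.sq_B A.hs A.hsp he hez).mp (by conv_lhs => arg 1; rw [← this]
                                          exact inv_mul_cancel _)

/-- An element acting as the plane times a part with vector in the span acts radically at a point. -/
theorem finish {y d : G} (hyz : y * z = z * y) (hyy : y * y = 1) (hd : d ∈ Q') (hdz : d * z = z * d)
    (hM : M y = M b2 * M d) (hsp' : Sp (π x) c1 c2 (P.dl s d)) : ∃ x', P.h.Rad y x' := by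
  obtain ⟨i, j, k, hδ⟩ := hsp'
  have qc : qf (j • c1 + k • c2) = 0 := by
    rw [qf_add, qf_smul, qf_smul, bf_smul_left, bf_smul_right, A.q1, A.q2, A.c12]; simp
  have bpc : bf (π x) (j • c1 + k • c2) = 0 := by
    rw [bf_add_right, bf_smul_right, bf_smul_right, A.p1, A.p2]; simp
  have hδ' : P.dl s d = i • π x + (j • c1 + k • c2) := by rw [hδ, add_assoc]
  have qδ : qf (P.dl s d) = 0 := by
    rw [hδ', qf_add, qf_smul, P.p_q, qc, bf_smul_left, bpc]; simp
  have hMd : ∀ v, (M d).1 v = v + bf v (j • c1 + k • c2) • π x + bf v (π x) • (j • c1 + k • c2) := fun v => by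
    rw [P.M_full A.hs A.hsp hd hdz, qδ, mul_zero, add_zero, hδ']
    generalize j • c1 + k • c2 = c
    rw [bf_add_right, bf_smul_right, add_smul, smul_add, smul_smul, mul_comm i]
    generalize (bf v (π x) * i) • π x = R
    rw [show v + (R + bf v c • π x) + (R + bf v (π x) • c) = v + bf v c • π x + bf v (π x) • c + (R + R) by abel,
      V_add_self, add_zero]
  have hcom : ∀ v, (M y).1 v = v + bf v (j • c1 + k • c2) • π x + bf v (π x) • (j • c1 + k • c2) +
      bf v c2 • c1 + bf v c1 • c2 := fun v => by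
    rw [hM]
    show (M b2).1 ((M d).1 v) = _
    rw [hMd, A.act]
    have e1 : bf (π x) c1 = 0 := A.p1
    simp only [bf_add_left, bf_smul_left, e1, A.p2, bf_comm c2 c1, A.c12, bf_self, mul_zero, add_zero]
  by_cases hc : j • c1 + k • c2 = 0
  · have hM' : ∀ v, (M y).1 v = v + bf v c2 • c1 + bf v c1 • c2 := fun v => by
      rw [hcom, hc]; simp
    obtain ⟨x', hx', hπ, hyx⟩ := P.h.point_of_center hyz hyy (p := c1) (w := v1) A.q1
      (fun e => one_ne_zero (A.v21.symm.trans (by rw [e, bf_zero_right]))) (by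
        rw [hM', A.v12, A.v11, one_smul, zero_smul, add_zero, add_comm v1 c1, add_assoc, V_add_self, add_zero])
    refine ⟨x', hyz, hx', hyx, fun v hv => ?_⟩
    rw [hπ] at hv ⊢
    rw [hM', hv, zero_smul, add_zero]
    rcases F2_cases (bf v c2) with e | e <;> rw [e]
    · exact Or.inl (by rw [zero_smul, add_zero])
    · exact Or.inr (by rw [one_smul])
  · obtain ⟨w0, a1, a2⟩ : ∃ w, bf w c1 = 0 ∧ bf w c2 = 0 ∧ bf w (π x) = 1 :=
      ⟨π s + bf (π s) c1 • v2 + bf (π s) c2 • v1, by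
        simp [bf_add_left, bf_smul_left, A.v11, A.v21, F2_add_self], by
        simp [bf_add_left, bf_smul_left, A.v12, A.v22, F2_add_self], by
        simp [bf_add_left, bf_smul_left, A.w1, A.w2, A.hsp]⟩
    obtain ⟨x', hx', hπ, hyx⟩ := P.h.point_of_center hyz hyy (p := j • c1 + k • c2) (w := w0) qc hc (by
      rw [hcom, a1, a2.1, a2.2, bf_add_right, bf_smul_right, bf_smul_right, a1, a2.1]
      simp only [mul_zero, add_zero, zero_smul, one_smul]
      rw [add_comm w0, add_assoc, V_add_self, add_zero])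
    refine ⟨x', hyz, hx', hyx, fun v hv => ?_⟩
    rw [hπ] at hv ⊢
    rw [hcom, hv, zero_smul, add_zero]
    rw [bf_add_right, bf_smul_right, bf_smul_right] at hv
    have e0 : bf v c2 • c1 + bf v c1 • c2 = 0 ∨ bf v c2 • c1 + bf v c1 • c2 = j • c1 + k • c2 := by
      rcases F2_cases j with rfl | rfl <;> rcases F2_cases k with rfl | rfl
      · exact absurd (by simp) hc
      all_goals
        rcases F2_cases (bf v c1) with f | f <;> rcases F2_cases (bf v c2) with f' | f' <;> rw [f, f'] at hv ⊢ <;>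
        first
        | exact absurd hv (by decide)
        | (left; simp; done)
        | (right; simp; done)
    rw [show v + bf v (π x) • (j • c1 + k • c2) + bf v c2 • c1 + bf v c1 • c2 =
      v + (bf v (π x) • (j • c1 + k • c2) + (bf v c2 • c1 + bf v c1 • c2)) by abel]
    rcases F2_cases (bf v (π x)) with f | f <;> rcases e0 with e | e <;> rw [f, e]
    · exact Or.inl (by simp)
    · exact Or.inr (by simp)
    · exact Or.inr (by simp)
    · exact Or.inl (by rw [one_smul, V_add_self, add_zero])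

/-- Conjugation by the mover. -/
theorem step {y a d : G} (hyz : y * z = z * y) (hyx : y * x = x * y) (hyy : y * y = 1) (ha : a ∈ Q)
    (hax : a * x = x * a) (hd : d ∈ Q') (hdz : d * z = z * d) (he : y = b2 * a * d)
    (hs' : Sp (π x) c1 c2 (P.dl s (b2 * t * b2⁻¹ * t⁻¹) + π a + P.dl s d)) :
    ∃ y' x', IsConj y y' ∧ P.h.Rad y' x' := by
  obtain ⟨hη, hηz, hinv⟩ := A.eta
  obtain ⟨hb, hbz, hab⟩ := P.tr_of A.hs A.hsp A.ht A.htp ha hax
  set η := b2 * t * b2⁻¹ * t⁻¹ with hηdef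
  set b := t * a * t⁻¹ * a⁻¹ with hbdef
  have htx := P.h'.es.comm t A.ht
  obtain ⟨d1, hd1, hd1z, hd1e, hd1v⟩ : ∃ d1, d1 ∈ Q' ∧ d1 * z = z * d1 ∧ t * d * t⁻¹ = d1 ∧
      Eqp (π x) (P.dl s d) (P.dl s d1) := by
    have := P.h'.conj_Q A.ht hd
    split_ifs at this with h0
    · exact ⟨d, hd, hdz, this, Eqp.refl _ _⟩
    · refine ⟨d * x, mul_mem hd P.h'.es.mem, Commute.mul_left hdz P.zx.symm, this, ?_⟩
      have := (Eqp.refl (π x) (P.dl s d)).add (P.dl_U A.hs P.xU)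
      rw [add_zero] at this
      exact this.trans (P.dl_mul A.hs hd hdz P.h'.es.mem P.zx.symm)
  have hb2 : t * b2 * t⁻¹ = b2 * η := by
    have : η⁻¹ * b2 = b2 * η := by rw [← hinv]; group
    rw [← this, hηdef]; group
  have hy' : t * y * t⁻¹ = b2 * (η * b * a * d1) := by
    rw [he, show t * (b2 * a * d) * t⁻¹ = (t * b2 * t⁻¹) * (t * a * t⁻¹) * (t * d * t⁻¹) by group, hb2, hd1e, hbdef]
    group
  have htyz : t * y * t⁻¹ * z = z * (t * y * t⁻¹) := by
    have e : t * (z * x) * t⁻¹ = z := by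
      rw [show t * (z * x) * t⁻¹ = t * z * t⁻¹ * (t * x * t⁻¹) by group, A.htz, conj_fix_iff.mpr htx, mul_assoc,
        P.xx, mul_one]
    have hc : y * (z * x) = z * x * y := (Commute.mul_right hyz hyx : Commute y (z * x))
    calc t * y * t⁻¹ * z = t * y * t⁻¹ * (t * (z * x) * t⁻¹) := by rw [e]
      _ = t * (y * (z * x)) * t⁻¹ := by group
      _ = t * (z * x) * t⁻¹ * (t * y * t⁻¹) := by rw [hc]; group
      _ = z * (t * y * t⁻¹) := by rw [e]
  have haz := P.h.es.comm a ha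
  have hηb := Commute.mul_left hηz hbz
  have hy2 : t * y * t⁻¹ * (t * y * t⁻¹) = 1 := by
    rw [show t * y * t⁻¹ * (t * y * t⁻¹) = t * (y * y) * t⁻¹ by group, hyy, mul_one, mul_inv_cancel]
  obtain ⟨x', hx'⟩ := A.finish htyz hy2 (d := η * b * d1) (mul_mem (mul_mem hη hb) hd1)
    (Commute.mul_left hηb hd1z) (by
      rw [hy', P.h.M_mul _ _ A.b2z (Commute.mul_left (Commute.mul_left hηb haz) hd1z),
        P.h.M_mul _ _ (Commute.mul_left hηb haz) hd1z, P.h.M_mul _ _ hηb haz, P.h.M_Q ha, mul_one,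
        ← P.h.M_mul _ _ hηb hd1z]) (by
      refine hs'.eqp ?_
      exact ((((Eqp.refl (π x) (P.dl s η)).add hab).trans (P.dl_mul A.hs hη hηz hb hbz)).add hd1v).trans
        (P.dl_mul A.hs (mul_mem hη hb) hηb hd1 hd1z))
  exact ⟨_, x', isConj_iff.mpr ⟨t, rfl⟩, hx'⟩

/-- The squaring relations force the conclusion. -/
theorem reduce {y a d : G} (hyz : y * z = z * y) (hyx : y * x = x * y) (hyy : y * y = 1) (ha : a ∈ Q)
    (hax : a * x = x * a) (hd : d ∈ Q') (hdz : d * z = z * d) (he : y = b2 * a * d) :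
    ∃ y' x', IsConj y y' ∧ P.h.Rad y' x' := by
  have hi : b2⁻¹ = b2 := inv_eq_of_mul_eq_one_right A.b22
  have haz := P.h.es.comm a ha
  have hMy : M y = M b2 * M d := by
    rw [he, P.h.M_mul _ _ (Commute.mul_left A.b2z haz) hdz, P.h.M_mul _ _ A.b2z haz, P.h.M_Q ha, mul_one]
  obtain ⟨hd', hdz'⟩ := P.conj_mem_B A.b2z A.b2x hd hdz
  have ha' : b2 * a * b2⁻¹ ∈ Q := P.h.nor_mem A.b2z ha
  have hax' : b2 * a * b2⁻¹ * x = x * (b2 * a * b2⁻¹) :=
    Commute.mul_left (Commute.mul_left A.b2x hax) (Commute.inv_left A.b2x)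
  -- the second vector is orthogonal to the plane
  have hdd : M d * M d = 1 := by
    rw [← P.h.M_mul _ _ hdz hdz]
    rcases P.h'.es.sq d hd with e | e <;> rw [e]
    · exact P.h.M_one
    · exact P.h.M_Q P.hx
  have hMd' : M (b2 * d * b2⁻¹) = M d := by
    have h1 : M y * M y = 1 := by rw [← P.h.M_mul _ _ hyz hyz, hyy, P.h.M_one]
    rw [hMy] at h1
    rw [P.h.M_mul _ _ (Commute.mul_left A.b2z hdz) (Commute.inv_left A.b2z), P.h.M_mul _ _ A.b2z hdz, hi]
    exact mul_right_cancel (b := M d) (by rw [hdd, ← h1]; simp [mul_assoc])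
  have hδ : bf (P.dl s d) c1 = 0 ∧ bf (P.dl s d) c2 = 0 := by
    refine A.perp_of ?_
    have := P.dl_conj A.hs A.hsp A.b2z A.b2x hd hdz
    rw [P.dl_of_M A.hs hdz' hdz hMd'] at this
    exact this.symm
  -- the first vector is orthogonal to the plane
  have hprod : b2 * a * b2⁻¹ * (b2 * d * b2⁻¹) * a * d = 1 := by
    rw [← hyy, he, hi]
    calc b2 * a * b2 * (b2 * d * b2) * a * d = b2 * a * (b2 * b2) * d * b2 * a * d := by group
      _ = b2 * a * d * (b2 * a * d) := by rw [A.b22]; group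
  have hα : bf (π a) c1 = 0 ∧ bf (π a) c2 = 0 := by
    refine A.perp_of ?_
    have hu := P.comm_mem ha hax hd' hdz'
    rw [← P.comm_swap ha hax hd' hdz'] at hu
    set a' := b2 * a * b2⁻¹
    set d' := b2 * d * b2⁻¹
    set u := d' * a * d'⁻¹ * a⁻¹ with hudef
    have h1 : a' * u * a * (d' * d) = 1 := by
      rw [← hprod, hudef]; group
    have h2 : a' * u * a ∈ P.U := P.inter (mul_mem (mul_mem ha' (P.U_le hu).1) ha) (by
      rw [eq_inv_of_mul_eq_one_left h1]; exact inv_mem (mul_mem hd' hd))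
    have h3 : a' * a ∈ P.U := by
      have e : a' * a = a' * u * a * u⁻¹ := by
        rw [mul_assoc (a' * u), (Commute.inv_left (P.U_central hu (P.h.es.comm a ha) hax : Commute u a)).symm.eq,
          ← mul_assoc, mul_inv_cancel_right]
      rw [e]; exact mul_mem h2 (inv_mem hu)
    have h4 := (P.mem_U_iff.mp h3).2
    rw [P.h.π_mul _ ha' _ ha, show π a' = (M b2).1 (π a) from P.h.M_act b2 A.b2z a ha] at h4
    rcases h4 with e | e
    · exact Or.inl (by rw [← add_zero ((M b2).1 (π a)), ← V_add_self (π a), ← add_assoc, e, zero_add])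
    · exact Or.inr (by rw [← e, ← add_assoc, add_comm (π a), add_assoc, V_add_self, add_zero])
  -- the relations
  rw [A.com a ha hax hα.1 hα.2, A.flip hd hdz hδ.1 hδ.2] at hprod
  have hsq := P.sq_ab ha hax hd hdz
  rw [P.comm_eq A.hs A.hsp ha hax hd hdz] at hsq
  have hqa := P.h.sq a ha
  have hqd := P.sq_B A.hs A.hsp hd hdz
  set β := bf (π a) (P.dl s d) with hβ
  set γ := bf (P.dl s d) (P.dl s (b2 * t * b2⁻¹ * t⁻¹)) with hγ
  have hrel : qf (P.dl s d) = β ∧ qf (π a) = β + γ := by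
    obtain ⟨hn1, hnz, hnx⟩ := P.zx_ne
    have hxz1 : z * x * x = z := by rw [mul_assoc, P.xx, mul_one]
    have hzxz : z * x * z = x := by rw [P.zx, mul_assoc, P.h.zz, mul_one]
    have hxne : x ≠ z := P.ne
    have hlhs : a * d * (a * d) = if γ = 0 then 1 else z := by
      split_ifs at hprod ⊢ with h0
      · rw [← hprod]; group
      · have hz' : a * d * z * a * d = a * d * (a * d) * z := by
          have hc1 : Commute z (a * d) := (Commute.mul_right haz.symm hdz.symm)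
          calc a * d * z * a * d = a * d * (z * (a * d)) := by group
            _ = a * d * (a * d) * z := by rw [hc1.eq]; group
        have hprod' : a * d * z * a * d = 1 := by rw [← hprod]; group
        rw [hz'] at hprod'
        rw [eq_inv_of_mul_eq_one_left hprod', inv_eq_of_mul_eq_one_right P.h.zz]
    rw [hlhs] at hsq
    rcases P.h.es.sq a ha with ea | ea <;> rcases P.h'.es.sq d hd with ed | ed <;> rw [ea, ed] at hsq
    · rw [hqa.mp ea, hqd.mp ed]
      rcases F2_cases β with f | f <;> rcases F2_cases γ with f' | f' <;> rw [f, f'] at hsq ⊢ <;>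
        simp only [if_pos, if_neg one_ne_zero, one_mul, mul_one] at hsq
      · exact ⟨rfl, rfl⟩
      · exact absurd hsq P.h.es.ne
      · exact absurd hsq.symm hn1
      · exact absurd hsq.symm hnz
    all_goals
      have ea' : a * a ≠ 1 → qf (π a) = 1 := fun h => (F2_cases _).resolve_left fun e => h (hqa.mpr e)
      have ed' : d * d ≠ 1 → qf (P.dl s d) = 1 := fun h => (F2_cases _).resolve_left fun e => h (hqd.mpr e)
      first | (rw [hqa.mp ea]) | (rw [ea' (by rw [ea]; exact P.h.es.ne)])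
      first | (rw [hqd.mp ed]) | (rw [ed' (by rw [ed]; exact P.x1)])
      rcases F2_cases β with f | f <;> rcases F2_cases γ with f' | f' <;> rw [f, f'] at hsq ⊢ <;>
        simp only [if_pos, if_neg one_ne_zero, one_mul, mul_one, hxz1, hzxz, P.h.zz, P.xx] at hsq <;>
        first
        | exact ⟨by decide, by decide⟩
        | exact absurd hsq hn1
        | exact absurd hsq.symm hn1
        | exact absurd hsq P.h.es.ne
        | exact absurd hsq.symm P.h.es.ne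
        | exact absurd hsq P.x1
        | exact absurd hsq.symm P.x1
        | exact absurd hsq hnz
        | exact absurd hsq.symm hnz
        | exact absurd hsq hxne
        | exact absurd hsq.symm hxne
  have hη := A.eta_perp
  obtain ⟨he1, he2, -⟩ := A.eta
  rcases forced A.ind P.p_q A.q1 A.q2 A.p1 A.p2 A.c12 ⟨(P.comm_x ha).mp hax, hα.1, hα.2⟩
      ⟨P.dl_perp A.hs hd hdz, hδ.1, hδ.2⟩ ⟨P.dl_perp A.hs he1 he2, hη.1, hη.2⟩ hrel.1 hrel.2 A.eta_q with
    hS | hS | hS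
  · obtain ⟨x', hx'⟩ := A.finish hyz hyy hd hdz hMy hS
    exact ⟨y, x', IsConj.refl y, hx'⟩
  · exact A.step hyz hyx hyy ha hax hd hdz he hS
  · -- conjugate by the element of `Q` moving `x` first
    have hsx : s * x * s⁻¹ = x * z := by
      rw [P.h.conj_Q A.hs P.hx, if_neg (by rw [A.hsp]; exact one_ne_zero)]
    have hsz := P.h.es.comm s A.hs
    set a1 := b2⁻¹ * s * b2 * s⁻¹ * (s * a * s⁻¹) * (s * d * s⁻¹ * d⁻¹) with ha1
    have q1 : b2⁻¹ * s * b2 ∈ Q := by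
      have := P.h.nor_mem (Commute.inv_left A.b2z) A.hs
      rwa [inv_inv] at this
    have q2 : s * d * s⁻¹ * d⁻¹ ∈ Q := by
      rw [show s * d * s⁻¹ * d⁻¹ = s * (d * s⁻¹ * d⁻¹) by group]
      exact mul_mem A.hs (P.h.nor_mem hdz (inv_mem A.hs))
    have q3 : s * a * s⁻¹ ∈ Q := P.h.nor_mem hsz ha
    have ha1Q : a1 ∈ Q := mul_mem (mul_mem (mul_mem q1 (inv_mem A.hs)) q3) q2
    have hπ1 : π a1 = bf (π s) c2 • c1 + bf (π s) c1 • c2 + π a + P.dl s d := by
      have e1 : π (b2⁻¹ * s * b2) = (M b2).1 (π s) := by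
        have := P.h.M_act b2⁻¹ (Commute.inv_left A.b2z) s A.hs
        rw [inv_inv] at this
        rw [this, P.h.M_inv A.b2z, ← P.h.M_inv A.b2z, hi]
      rw [ha1, P.h.π_mul _ (mul_mem (mul_mem q1 (inv_mem A.hs)) q3) _ q2,
        P.h.π_mul _ (mul_mem q1 (inv_mem A.hs)) _ q3, P.h.π_mul _ q1 _ (inv_mem A.hs), e1, P.h.π_inv A.hs,
        P.h.π_mul _ (mul_mem A.hs ha) _ (inv_mem A.hs), P.h.π_mul _ A.hs _ ha, P.h.π_inv A.hs, A.act]
      show _ + π (s * d * s⁻¹ * d⁻¹) = _ + π (s * d * s⁻¹ * d⁻¹)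
      rw [show π s + bf (π s) c2 • c1 + bf (π s) c1 • c2 + π s + (π s + π a + π s) =
        bf (π s) c2 • c1 + bf (π s) c1 • c2 + π a + (π s + π s) + (π s + π s) by abel]
      simp only [V_add_self, add_zero]
    have ha1x : a1 * x = x * a1 := (P.comm_x ha1Q).mpr (by
      rw [hπ1, bf_add_left, bf_add_left, bf_add_left, bf_smul_left, bf_smul_left, bf_comm c1, A.p1, bf_comm c2, A.p2,
        (P.comm_x ha).mp hax, P.dl_perp A.hs hd hdz]
      simp)
    have hy1 : s * y * s⁻¹ = b2 * a1 * d := by rw [he, ha1]; group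
    obtain ⟨y', x', hc, hr⟩ := A.step (y := s * y * s⁻¹) (Commute.mul_left (Commute.mul_left hsz hyz)
      (Commute.inv_left hsz)) (by
        have hyxz : y * (x * z) = x * z * y := (Commute.mul_right hyx hyz : Commute y (x * z))
        have e : s * (x * z) * s⁻¹ = x := by
          rw [show s * (x * z) * s⁻¹ = s * x * s⁻¹ * (s * z * s⁻¹) by group, hsx, conj_fix_iff.mpr hsz, mul_assoc,
            P.h.zz, mul_one]
        calc s * y * s⁻¹ * x = s * y * s⁻¹ * (s * (x * z) * s⁻¹) := by rw [e]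
          _ = s * (y * (x * z)) * s⁻¹ := by group
          _ = s * (x * z) * s⁻¹ * (s * y * s⁻¹) := by rw [hyxz]; group
          _ = x * (s * y * s⁻¹) := by rw [e])
      (by rw [show s * y * s⁻¹ * (s * y * s⁻¹) = s * (y * y) * s⁻¹ by group, hyy, mul_one, mul_inv_cancel])
      ha1Q ha1x hd hdz hy1 (by
        have e : P.dl s (b2 * t * b2⁻¹ * t⁻¹) + π a1 + P.dl s d =
            bf (π s) c2 • c1 + bf (π s) c1 • c2 + (P.dl s (b2 * t * b2⁻¹ * t⁻¹) + π a) := by
          rw [hπ1]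
          generalize P.dl s (b2 * t * b2⁻¹ * t⁻¹) = gη
          rw [show gη + (bf (π s) c2 • c1 + bf (π s) c1 • c2 + π a + P.dl s d) + P.dl s d =
            bf (π s) c2 • c1 + bf (π s) c1 • c2 + (gη + π a) + (P.dl s d + P.dl s d) by abel, V_add_self, add_zero]
        rw [e]
        exact Sp.add ⟨0, bf (π s) c2, bf (π s) c1, by simp⟩ hS)
    exact ⟨y', x', (isConj_iff.mpr ⟨s, rfl⟩ : IsConj y (s * y * s⁻¹)).trans hc, hr⟩

end Ax

end Pr

/-- Every involution of `C(z)` outside `Q` is conjugate to one acting radically at a point. -/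
theorem ST.exists_rad (h : ST z Q π M) {y : G} (hyz : y * z = z * y) (hyy : y * y = 1) (hyQ : y ∉ Q) :
    ∃ y' x', IsConj y y' ∧ y' * z = z * y' ∧ y' * y' = 1 ∧ h.Rad y' x' := by
  suffices hh : ∃ y' x', IsConj y y' ∧ h.Rad y' x' ∧ y' * z = z * y' by
    obtain ⟨y', x', hc, hr, hz'⟩ := hh
    obtain ⟨g, rfl⟩ := isConj_iff.mp hc
    exact ⟨_, x', hc, hz', by rw [show g * y * g⁻¹ * (g * y * g⁻¹) = g * (y * y) * g⁻¹ by group, hyy, mul_one,
      mul_inv_cancel], hr⟩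
  have h2 : M y * M y = 1 := by rw [← h.M_mul _ _ hyz hyz, hyy, h.M_one]
  obtain ⟨p, w, hp, hp0, hw, hfix, hcase⟩ := exists_axis h2 (h.M_mem y hyz) (fun e => hyQ ((h.M_ker y hyz).mp e))
  obtain ⟨x, hx, rfl, hyx⟩ := h.point_of_center hyz hyy hp hp0 hw
  rcases hcase with hrad | ⟨c1, c2, v1, v2, w1, w2, p1, p2, q1, q2, c12, v11, v12, v21, v22, f1, f2, hact⟩
  · exact ⟨y, x, IsConj.refl y, ⟨hyz, hx, hyx, hrad⟩, hyz⟩
  obtain ⟨k, hk, P⟩ := h.pr_of hx
  obtain ⟨s, hs, hsp, -⟩ := P.exists_s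
  obtain ⟨t, ht, htp, htz, htz'⟩ := P.exists_t
  obtain ⟨x2, hx2, hπ2⟩ := h.exists_lift_pt q1 (fun e => one_ne_zero (v21.symm.trans (by rw [e, bf_zero_right])))
  obtain ⟨k2, hk2, P2⟩ := h.pr_of hx2
  obtain ⟨s2, hs2, hπs2⟩ := h.π_surj v2
  have hsp2 : bf (π s2) (π x2) = 1 := by rw [hπs2, hπ2]; exact v21
  obtain ⟨b2, hb2, hb2z, hdl⟩ := P2.dl_surj hs2 hsp2 (v := c2) (by rw [hπ2, bf_comm]; exact c12)
  have hdl2 : P2.dl s2 b2 = c2 := by
    rcases hdl with e | e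
    · exact e
    · exfalso
      have hid := P2.qf_dl hs2 hb2z
      rw [hπs2, e, hπ2, bf_add_right, qf_add, v22, v21, q2, q1, bf_comm c2 c1, c12] at hid
      exact one_ne_zero ((zero_add (1 : F2)).symm.trans (hid.trans (by simp)))
  have hact2 : ∀ v, (M b2).1 v = v + bf v c2 • c1 + bf v c1 • c2 := fun v => by
    rw [P2.M_full hs2 hsp2 hb2 hb2z, hdl2, hπ2, q2, mul_zero, add_zero]
  have hcom : ∀ a ∈ Q, a * x = x * a → bf (π a) c1 = 0 → bf (π a) c2 = 0 → b2 * a * b2⁻¹ = a := by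
    intro a ha _ e1 e2
    have := P2.comm_eq hs2 hsp2 ha ((P2.comm_x ha).mpr (by rw [hπ2]; exact e1)) hb2 hb2z
    rw [hdl2, if_pos e2] at this
    exact conj_fix_iff.mpr (mul_inv_eq_one.mp (show a * b2 * (b2 * a)⁻¹ = 1 by rw [← this]; group)).symm
  have hb2x : b2 * x = x * b2 := conj_fix_iff.mp (hcom x hx.1 rfl p1 p2)
  have hb22 : b2 * b2 = 1 := (P2.sq_B hs2 hsp2 hb2 hb2z).mpr (by rw [hdl2, q2])
  have A : Pr.Ax P s t b2 c1 c2 v1 v2 := ⟨hs, hsp, ht, htp, htz, htz', hb2z, hb2x, hb22, hact2, hcom, q1, q2, p1, p2,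
    c12, w1, w2, v11, v12, v21, v22⟩
  have hr : ∀ v, bf v (π x) = 0 → Eqp (π x) v ((M (b2 * y)).1 v) := by
    intro v hv
    rw [h.M_mul _ _ hb2z hyz]
    have e := (hact v hv).map (M b2)
    rw [hact2 (π x), p1, p2, zero_smul, zero_smul, add_zero, add_zero] at e
    refine Eqp.trans ?_ e
    left
    rw [hact2]
    simp only [bf_add_left, bf_smul_left, bf_self, bf_comm c2 c1, c12, mul_zero, add_zero]
    generalize bf v c1 • c2 = B
    generalize bf v c2 • c1 = C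
    rw [show v + B + C + C + B = v + (B + B) + (C + C) by abel, V_add_self, V_add_self, add_zero, add_zero]
  obtain ⟨a, d, ha, hax, hd, hdz, he⟩ := P.decompose hs hsp (Commute.mul_left hb2z hyz) (Commute.mul_left hb2x hyx) hr
  have hy : y = b2 * a * d := by
    rw [mul_assoc, ← he, ← mul_assoc, hb22, one_mul]
  obtain ⟨y', x', hc, hr'⟩ := A.reduce hyz hyx hyy ha hax hd hdz hy
  exact ⟨y', x', hc, hr', hr'.1⟩

end CfsgLib.ConwayType
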