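import Cfsg.Agent.Lib.ConwayType.NotConj

/-!
Groups of Conway type: the second and third kind of involutions are not conjugate.
-/

set_option autoImplicit false
set_option linter.unusedSectionVars false
set_option maxRecDepth 20000

namespace CfsgLib.ConwayType

open QuadraticMap Module CfsgLargeExtra
open CfsgLib.HallJankoType (mem_cent conj_fix_iff)

universe u

variable {G : Type u} [Group G] [Finite G] {z x s : G} {Q Q' : Subgroup G} {π π' : G → V} {M M' : G → O8}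

/-- A power with exponent in two elements. -/
def ez (c : G) (i : F2) : G := if i = 0 then 1 else c

omit [Finite G] in
theorem ez_zero (c : G) : ez c 0 = 1 := if_pos rfl

omit [Finite G] in
theorem ez_one (c : G) : ez c 1 = c := if_neg one_ne_zero

theorem lin_two : ∀ a c e f : F2, c + f + a = 0 → a + e + f = 0 → e + c = 0 → e = c ∧ f = a + c := by decide

theorem lin_ind : ∀ a c j k : F2, ¬ (a = 0 ∧ c = 0) → j * a + k * c = 0 → j * c + k * (a + c) = 0 → j = 0 ∧ k = 0 := by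
  decide

theorem lin_form : ∀ β a c : F2, ¬ (a = 0 ∧ c = 0) →
    β * (a + c + a * c) = β ∧ β * (c + (a + c) + c * (a + c)) = β ∧ β * (a * (a + c) + c * c) = β := by decide

namespace Pr

variable (P : Pr z x Q Q' π π' M M')
include P

theorem π'_bf (hs : s ∈ Q) (hsp : bf (π s) (π x) = 1) {d d' : G} (hd : d ∈ Q') (hdz : d * z = z * d) (hd' : d' ∈ Q')
    (hdz' : d' * z = z * d') : bf (π' d) (π' d') = bf (P.dl s d) (P.dl s d') := by
  have hq : ∀ {e : G}, e ∈ Q' → e * z = z * e → qf (π' e) = qf (P.dl s e) := fun {e} he hez => by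
    have h1 := P.sq_B hs hsp he hez
    have h2 := P.h'.sq e he
    rcases F2_cases (qf (P.dl s e)) with f | f <;> rcases F2_cases (qf (π' e)) with f' | f' <;> rw [f, f'] <;>
      rw [f] at h1 <;> rw [f'] at h2
    · exact absurd (h2.mp (h1.mpr rfl)) one_ne_zero
    · exact absurd (h1.mp (h2.mpr rfl)) one_ne_zero
  have hm := hq (mul_mem hd hd') (Commute.mul_left hdz hdz')
  rw [(P.dl_mul hs hd hdz hd' hdz').qf_eq P.p_q (by
      rw [bf_add_left, P.dl_perp hs hd hdz, P.dl_perp hs hd' hdz', add_zero]),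
    P.h'.π_mul d hd d' hd', qf_add, qf_add, hq hd hdz, hq hd' hdz', add_right_inj] at hm
  exact hm

theorem ezU {c : G} (hc : c ∈ P.U) (i : F2) : ez c i ∈ P.U := by
  rcases F2_cases i with rfl | rfl
  · rw [ez_zero]; exact one_mem _
  · rw [ez_one]; exact hc

/-- Conjugation of one product by another. -/
theorem conj_formula (hs : s ∈ Q) (hsp : bf (π s) (π x) = 1) {a' d a b : G} (ha' : a' ∈ Q) (hax' : a' * x = x * a')
    (hd : d ∈ Q') (hdz : d * z = z * d) (ha : a ∈ Q) (hax : a * x = x * a) (hb : b ∈ Q') (hbz : b * z = z * b) :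
    a' * d * (a * b) * (a' * d)⁻¹ = a * b *
      (ez z (bf (π a') (π a) + bf (π a') (P.dl s b) + bf (π a) (P.dl s d)) *
        ez x (bf (π a') (P.dl s b) + bf (π a) (P.dl s d) + bf (P.dl s d) (P.dl s b))) := by
  have hez : ∀ {r u : G}, r * z = z * r → r * x = x * r → u ∈ P.U → r * u * r⁻¹ = u := fun {r u} h1 h2 hu =>
    conj_fix_iff.mpr (P.U_central hu h1 h2).symm
  have e1 : d * a * d⁻¹ = ez (z * x) (bf (π a) (P.dl s d)) * a := by
    have := P.comm_eq hs hsp ha hax hd hdz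
    rw [← P.comm_swap ha hax hd hdz] at this
    rw [← mul_inv_eq_iff_eq_mul, this]; rfl
  have e2 : d * b * d⁻¹ = b * ez x (bf (P.dl s d) (P.dl s b)) := by
    rw [P.h'.conj_Q hd hb, P.π'_bf hs hsp hd hdz hb hbz, ez]
    split_ifs <;> simp
  have e3 : a' * a * a'⁻¹ = a * ez z (bf (π a') (π a)) := by
    rw [P.h.conj_Q ha' ha, ez]
    split_ifs <;> simp
  have e4 : a' * b * a'⁻¹ = ez (z * x) (bf (π a') (P.dl s b)) * b := by
    rw [← mul_inv_eq_iff_eq_mul, P.comm_eq hs hsp ha' hax' hb hbz]; rfl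
  have hzxU : z * x ∈ P.U := mul_mem P.zU P.xU
  have c1 := hez (P.h.es.comm a' ha') hax' (P.ezU hzxU (bf (π a) (P.dl s d)))
  have c2 := hez (P.h.es.comm a' ha') hax' (P.ezU P.xU (bf (P.dl s d) (P.dl s b)))
  rw [show a' * d * (a * b) * (a' * d)⁻¹ = a' * (d * a * d⁻¹) * a'⁻¹ * (a' * (d * b * d⁻¹) * a'⁻¹) by group, e1, e2]
  generalize bf (π a) (P.dl s d) = p1 at c1 ⊢
  generalize bf (P.dl s d) (P.dl s b) = p2 at c2 ⊢
  rw [show a' * (ez (z * x) p1 * a) * a'⁻¹ = a' * ez (z * x) p1 * a'⁻¹ * (a' * a * a'⁻¹) by group,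
    show a' * (b * ez x p2) * a'⁻¹ = a' * b * a'⁻¹ * (a' * ez x p2 * a'⁻¹) by group, c1, c2, e3, e4]
  generalize bf (π a') (π a) = p3
  generalize bf (π a') (P.dl s b) = p4
  have k1 : ∀ {u : G}, u ∈ P.U → u * a = a * u := fun hu => P.U_central hu (P.h.es.comm a ha) hax
  have k2 : ∀ {u : G}, u ∈ P.U → u * b = b * u := fun hu => P.U_central hu hbz (P.h'.es.comm b hb)
  rw [← mul_assoc (ez (z * x) p1) a, k1 (P.ezU hzxU p1), k2 (P.ezU hzxU p4),
    show a * ez (z * x) p1 * ez z p3 * (b * ez (z * x) p4 * ez x p2) =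
      a * (ez (z * x) p1 * ez z p3 * b) * (ez (z * x) p4 * ez x p2) by group,
    k2 (mul_mem (P.ezU hzxU p1) (P.ezU P.zU p3))]
  simp only [mul_assoc]
  congr 2
  have h1 : ∀ w, z * (z * w) = w := fun w => by rw [← mul_assoc, P.h.zz, one_mul]
  have h2 : ∀ w, x * (x * w) = w := fun w => by rw [← mul_assoc, P.xx, one_mul]
  have h3 : ∀ w, x * (z * w) = z * (x * w) := fun w => by rw [← mul_assoc, ← P.zx, mul_assoc]
  rcases F2_cases p1 with rfl | rfl <;> rcases F2_cases p2 with rfl | rfl <;> rcases F2_cases p3 with rfl | rfl <;>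
    rcases F2_cases p4 with rfl | rfl <;>
    simp [ez_zero, ez_one, F2_add_self, mul_assoc, h1, h2, h3, P.h.zz, P.xx, P.zx.symm]

/-- When products commute. -/
theorem commute_iff (hs : s ∈ Q) (hsp : bf (π s) (π x) = 1) {a' d a b : G} (ha' : a' ∈ Q) (hax' : a' * x = x * a')
    (hd : d ∈ Q') (hdz : d * z = z * d) (ha : a ∈ Q) (hax : a * x = x * a) (hb : b ∈ Q') (hbz : b * z = z * b) :
    a' * d * (a * b) = a * b * (a' * d) ↔
      bf (π a') (π a) + bf (π a') (P.dl s b) + bf (π a) (P.dl s d) = 0 ∧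
      bf (π a') (P.dl s b) + bf (π a) (P.dl s d) + bf (P.dl s d) (P.dl s b) = 0 := by
  rw [← conj_fix_iff, P.conj_formula hs hsp ha' hax' hd hdz ha hax hb hbz, mul_eq_left]
  generalize bf (π a') (π a) + bf (π a') (P.dl s b) + bf (π a) (P.dl s d) = i
  generalize bf (π a') (P.dl s b) + bf (π a) (P.dl s d) + bf (P.dl s d) (P.dl s b) = j
  rcases F2_cases i with rfl | rfl <;> rcases F2_cases j with rfl | rfl <;>
    simp [ez_zero, ez_one, P.h.es.ne, P.x1, P.zx_ne.1]

/-- The elements of `C(z)` commuting with `x` acting radically at it, commuting with `t`. -/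
def radCent (t : G) : Subgroup G where
  carrier := {r | r * z = z * r ∧ r * x = x * r ∧ r * t = t * r ∧ ∀ v, bf v (π x) = 0 → Eqp (π x) v ((M r).1 v)}
  one_mem' := ⟨by simp, by simp, by simp, fun v _ => Or.inl (by rw [P.h.M_one]; rfl)⟩
  mul_mem' := by
    rintro r r' ⟨h1, h2, h3, h4⟩ ⟨k1, k2, k3, k4⟩
    refine ⟨Commute.mul_left h1 k1, Commute.mul_left h2 k2, Commute.mul_left h3 k3, fun v hv => ?_⟩
    rw [P.h.M_mul _ _ h1 k1]
    have e := (k4 v hv).map (M r)
    rw [P.fix_c h1 h2] at e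
    exact (h4 v hv).trans e
  inv_mem' := by
    rintro r ⟨h1, h2, h3, h4⟩
    refine ⟨Commute.inv_left h1, Commute.inv_left h2, Commute.inv_left h3, fun v hv => ?_⟩
    rw [P.h.M_inv h1]
    obtain ⟨w, rfl⟩ := (M r).1.surjective v
    show Eqp _ _ ((M r).1.symm ((M r).1 w))
    rw [LinearEquiv.symm_apply_apply]
    rw [← P.fix_c h1 h2, bf_map] at hv
    exact (h4 w hv).symm

theorem radCent_two (t : G) : IsPGroup 2 ↥(P.radCent t) := by
  obtain ⟨s, hs, hsp, -⟩ := P.exists_s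
  rintro ⟨r, h1, h2, h3, h4⟩
  obtain ⟨a, b, ha, hax, hb, hbz, rfl⟩ := P.decompose hs hsp h1 h2 h4
  refine ⟨2, Subtype.ext ?_⟩
  have hu : a * b * (a * b) ∈ P.U := by
    rw [P.sq_ab ha hax hb hbz]
    refine mul_mem (mul_mem (P.comm_mem ha hax hb hbz) ?_) ?_
    · rcases P.h.es.sq a ha with e | e <;> rw [e]
      exacts [one_mem _, P.zU]
    · rcases P.h'.es.sq b hb with e | e <;> rw [e]
      exacts [one_mem _, P.xU]
  show (a * b) ^ (2 ^ 2) = 1
  rw [show (2 : ℕ) ^ 2 = 2 * 2 by norm_num, pow_mul, pow_two, pow_two]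
  exact (P.U_le hu).2.2

theorem Q_radCent {q t : G} (hq : q ∈ Q) (hqx : q * x = x * q) (hqt : q * t = t * q) : q ∈ P.radCent t :=
  ⟨P.h.es.comm q hq, hqx, hqt, fun v _ => Or.inl (by rw [P.h.M_Q hq]; rfl)⟩

/-- The only conjugate of `z` centralising the radical part and an element swapping `x` and `x * z` is `z`. -/
theorem only_z (hs : s ∈ Q) (hsp : bf (π s) (π x) = 1) {β : F2} {t h w : G} (ht : P.Cfg β s t)
    (hhz : h * z = z * h) (hhx : h * x * h⁻¹ = x * z) (hw : IsConj z w)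
    (hcent : ∀ r ∈ P.radCent t, w * r = r * w) (hwh : w * h = h * w) : w = z := by
  obtain ⟨htz, htx, -, -⟩ := P.cfg_props hs hsp ht
  obtain ⟨a, b, ha, hax, hb, hbz, rfl, qa, qb, hab, hI⟩ := ht
  have hwz : w * z = z * w := hcent z (P.Q_radCent P.h.es.mem P.zx htz.symm)
  have hwx : w * x = x * w := hcent x (P.Q_radCent P.hx rfl htx.symm)
  have hwp : (M w).1 (π x) = π x := P.fix_c hwz hwx
  have hαp : bf (π a) (π x) = 0 := (P.comm_x ha).mp hax
  have hδp := P.dl_perp hs hb hbz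
  -- elements of the part realising every vector
  have make : ∀ v, bf v (π x) = 0 → ∃ a' d, a' ∈ Q ∧ a' * x = x * a' ∧ d ∈ Q' ∧ d * z = z * d ∧
      Eqp (π x) v (P.dl s d) ∧ bf (π a') (π x) = 0 ∧ bf (π a') (π a) = bf v (P.dl s b) ∧
      bf (π a') (P.dl s b) = bf (π a) v + bf v (P.dl s b) ∧ a' * d ∈ P.radCent (a * b) := by
    intro v hv
    obtain ⟨d, hd, hdz, he⟩ := P.dl_surj hs hsp hv
    obtain ⟨u, u1, u2, u3⟩ := hI.exists_dual2 (bf v (P.dl s b)) (bf (π a) v + bf v (P.dl s b))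
    obtain ⟨a', ha', rfl⟩ := P.h.π_surj u
    have hax' := (P.comm_x ha').mpr u1
    refine ⟨a', d, ha', hax', hd, hdz, he, u1, u2, u3, Commute.mul_left (P.h.es.comm a' ha') hdz,
      Commute.mul_left hax' (P.h'.es.comm d hd), ?_, fun v' hv' => ?_⟩
    · refine (P.commute_iff hs hsp ha' hax' hd hdz ha hax hb hbz).mpr ?_
      rw [u2, u3, he.bf_eq hαp, show bf (P.dl s d) (P.dl s b) = bf v (P.dl s b) by
        rw [bf_comm, he.bf_eq hδp, bf_comm]]
      exact (show ∀ p q : F2, q + (p + q) + p = 0 ∧ p + q + p + q = 0 by decide) _ _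
    · rw [P.h.M_mul _ _ (P.h.es.comm a' ha') hdz, P.h.M_Q ha', one_mul]
      exact P.perp_cases hd hdz hv'
  -- it acts radically
  have hrad : ∀ v, bf v (π x) = 0 → Eqp (π x) v ((M w).1 v) := by
    intro v hv
    obtain ⟨a', d, ha', hax', hd, hdz, he, -, -, -, hr⟩ := make v hv
    obtain ⟨hd1, hd1z⟩ := P.conj_mem_B hwz hwx hd hdz
    have hM : M (w * d * w⁻¹) = M d := by
      have e1 : M w * M d = M d * M w := by
        have := congrArg M (hcent _ hr)
        rwa [P.h.M_mul _ _ hwz hr.1, P.h.M_mul _ _ hr.1 hwz, P.h.M_mul _ _ (P.h.es.comm a' ha') hdz, P.h.M_Q ha',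
          one_mul] at this
      rw [P.h.M_mul _ _ (Commute.mul_left hwz hdz) (Commute.inv_left hwz), P.h.M_mul _ _ hwz hdz, P.h.M_inv hwz, e1,
        mul_inv_cancel_right]
    have h1 := P.dl_conj hs hsp hwz hwx hd hdz
    rw [P.dl_of_M hs hd1z hdz hM] at h1
    have h2 := he.map (M w)
    rw [hwp] at h2
    exact he.trans (h1.symm.trans h2.symm)
  obtain ⟨a2, b2, ha2, hax2, hb2, hbz2, rfl⟩ := P.decompose hs hsp hwz hwx hrad
  have hδ2p := P.dl_perp hs hb2 hbz2
  have hα2p : bf (π a2) (π x) = 0 := (P.comm_x ha2).mp hax2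
  -- the vectors lie in the span
  have hperp : ∀ u, bf u (π x) = 0 → bf u (π a) = 0 → bf u (P.dl s b) = 0 →
      bf u (π a2) = 0 ∧ bf u (P.dl s b2) = 0 := by
    intro u u1 u2 u3
    obtain ⟨q, hq, rfl⟩ := P.h.π_surj u
    have hqx := (P.comm_x hq).mpr u1
    have hqt := (P.cent_cfg hs hsp ha hax hb hbz hI hq).mpr ⟨u1, u2, u3⟩
    have h0 : P.dl s 1 = 0 := by
      show π (s * 1 * s⁻¹ * 1⁻¹) = 0
      simp [P.h.π_one]
    have hk := (P.commute_iff hs hsp hq hqx (one_mem Q') (by simp) ha2 hax2 hb2 hbz2).mp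
      (by rw [mul_one]; exact (hcent q (P.Q_radCent hq hqx hqt)).symm)
    rw [h0, bf_zero_right, bf_zero_left, add_zero, add_zero, add_zero] at hk
    exact ⟨by have := hk.1; rwa [hk.2, add_zero] at this, hk.2⟩
  obtain ⟨cA, hA⟩ := mem_span_of_perp_all ![π x, π a, P.dl s b] (v := π a2) fun u hu => by
    rw [bf_comm]
    exact (hperp u (by rw [bf_comm]; exact hu 0) (by rw [bf_comm]; exact hu 1) (by rw [bf_comm]; exact hu 2)).1
  obtain ⟨cD, hD⟩ := mem_span_of_perp_all ![π x, π a, P.dl s b] (v := P.dl s b2) fun u hu => by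
    rw [bf_comm]
    exact (hperp u (by rw [bf_comm]; exact hu 0) (by rw [bf_comm]; exact hu 1) (by rw [bf_comm]; exact hu 2)).2
  rw [Fin.sum_univ_three] at hA hD
  simp only [Matrix.cons_val_zero, Matrix.cons_val_one, Matrix.cons_val_two, Matrix.tail_cons,
    Matrix.head_cons] at hA hD
  -- the linear conditions
  have test : ∀ v, bf v (π x) = 0 →
      (cA 1 * bf v (P.dl s b) + cA 2 * (bf (π a) v + bf v (P.dl s b))) +
        (cD 1 * bf v (P.dl s b) + cD 2 * (bf (π a) v + bf v (P.dl s b))) +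
        (cA 1 * bf (π a) v + cA 2 * bf v (P.dl s b)) = 0 ∧
      (cD 1 * bf v (P.dl s b) + cD 2 * (bf (π a) v + bf v (P.dl s b))) +
        (cA 1 * bf (π a) v + cA 2 * bf v (P.dl s b)) + (cD 1 * bf (π a) v + cD 2 * bf v (P.dl s b)) = 0 := by
    intro v hv
    obtain ⟨a', d, ha', hax', hd, hdz, he, u1, u2, u3, hr⟩ := make v hv
    have hk := (P.commute_iff hs hsp ha' hax' hd hdz ha2 hax2 hb2 hbz2).mp (hcent _ hr).symm
    have f1 : bf (P.dl s d) (π x) = 0 := P.dl_perp hs hd hdz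
    have f2 : bf (π a) (P.dl s d) = bf (π a) v := he.bf_eq hαp
    have f3 : bf (P.dl s b) (P.dl s d) = bf v (P.dl s b) := by rw [he.bf_eq hδp, bf_comm]
    have k1 : bf (π a') (π a2) = cA 1 * bf v (P.dl s b) + cA 2 * (bf (π a) v + bf v (P.dl s b)) := by
      rw [hA, bf_add_right, bf_add_right, bf_smul_right, bf_smul_right, bf_smul_right, u1, u2, u3, mul_zero, zero_add]
    have k2 : bf (π a') (P.dl s b2) = cD 1 * bf v (P.dl s b) + cD 2 * (bf (π a) v + bf v (P.dl s b)) := by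
      rw [hD, bf_add_right, bf_add_right, bf_smul_right, bf_smul_right, bf_smul_right, u1, u2, u3, mul_zero, zero_add]
    have k3 : bf (π a2) (P.dl s d) = cA 1 * bf (π a) v + cA 2 * bf v (P.dl s b) := by
      rw [hA, bf_add_left, bf_add_left, bf_smul_left, bf_smul_left, bf_smul_left, bf_comm (π x), f1, f2, f3,
        mul_zero, zero_add]
    have k4 : bf (P.dl s d) (P.dl s b2) = cD 1 * bf (π a) v + cD 2 * bf v (P.dl s b) := by
      rw [bf_comm, hD, bf_add_left, bf_add_left, bf_smul_left, bf_smul_left, bf_smul_left, bf_comm (π x), f1, f2, f3,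
        mul_zero, zero_add]
    rw [k1, k2, k3, k4] at hk
    exact hk
  obtain ⟨va, va1, va2, va3⟩ := hI.exists_dual2 1 0
  obtain ⟨vd, vd1, vd2, vd3⟩ := hI.exists_dual2 0 1
  have t1 := test va va1
  have t2 := test vd vd1
  rw [bf_comm (π a) va, va2, va3] at t1
  rw [bf_comm (π a) vd, vd2, vd3] at t2
  simp only [mul_zero, mul_one, add_zero, zero_add] at t1 t2
  obtain ⟨hec, hfc⟩ := lin_two (cA 1) (cA 2) (cD 1) (cD 2) (by rw [← t1.1])
    (by rw [← t2.1]; generalize cA 1 = a1; generalize cA 2 = c1; generalize cD 1 = e1; generalize cD 2 = f1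
        exact (show ∀ a c e f : F2, a + e + f = a + c + (e + f) + c by decide) a1 c1 e1 f1)
    (by rw [← t2.2]; generalize cA 2 = c1; generalize cD 1 = e1; generalize cD 2 = f1
        exact (show ∀ c e f : F2, e + c = e + f + c + f by decide) c1 e1 f1)
  by_cases h0 : cA 1 = 0 ∧ cA 2 = 0
  · have hc : π a2 = cA 0 • π x ∧ P.dl s b2 = cD 0 • π x := by
      rw [hA, hD, hec, hfc, h0.1, h0.2]; simp
    have hU2 : a2 * b2 ∈ P.U := by
      refine mul_mem (P.mem_U_iff.mpr ⟨ha2, ?_⟩) (P.dl_inj hs hsp hb2 hbz2 ?_)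
      · rw [hc.1]; rcases F2_cases (cA 0) with e | e <;> rw [e] <;> simp
      · rw [hc.2]; rcases F2_cases (cD 0) with e | e <;> rw [e]
        · exact Or.inl (zero_smul _ _)
        · exact Or.inr (by simp)
    obtain ⟨hn1, hnz, hnx⟩ := P.zx_ne
    obtain ⟨g, hg⟩ := isConj_iff.mp hw
    rcases hU2 with e | e | e | e
    · exact absurd (conj_eq_one_iff.mp (hg.trans e)) P.h.es.ne
    · exact e
    · exfalso
      rw [e] at hwh
      rw [← hwh, mul_inv_cancel_right] at hhx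
      exact P.h.es.ne (mul_eq_left.mp hhx.symm)
    · exfalso
      rw [e] at hwh
      have : h * x * h⁻¹ = x := by
        have h2 : h * (z * x) * h⁻¹ = z * x := conj_fix_iff.mpr hwh.symm
        rw [show h * (z * x) * h⁻¹ = h * z * h⁻¹ * (h * x * h⁻¹) by group, conj_fix_iff.mpr hhz] at h2
        exact mul_left_cancel h2
      rw [this] at hhx
      exact P.h.es.ne (mul_eq_left.mp hhx.symm)
  · exfalso
    refine P.not_conj hs hsp (β := β) ⟨a2, b2, ha2, hax2, hb2, hbz2, rfl, ?_, ?_, ?_, ?_⟩ hw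
    all_goals obtain ⟨g1, g2, g3⟩ := lin_form β (cA 1) (cA 2) h0
    all_goals have hpα : bf (π x) (π a) = 0 := by rw [bf_comm]; exact hαp
    all_goals have hpδ : bf (π x) (P.dl s b) = 0 := by rw [bf_comm]; exact hδp
    · rw [hA]
      simp only [qf_add, qf_smul, bf_add_left, bf_smul_left, bf_smul_right, P.p_q, qa, qb, hpα, hpδ, hab]
      linear_combination g1
    · rw [hD, hec, hfc]
      simp only [qf_add, qf_smul, bf_add_left, bf_smul_left, bf_smul_right, P.p_q, qa, qb, hpα, hpδ, hab]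
      linear_combination g2
    · rw [hA, hD, hec, hfc]
      simp only [bf_add_left, bf_add_right, bf_smul_left, bf_smul_right, bf_self, hpα, hpδ, hab, hαp, hδp,
        bf_comm (P.dl s b) (π a)]
      linear_combination g3
    · intro i j k he
      rw [hA, hD, hec, hfc] at he
      obtain ⟨r0, r1, r2⟩ := hI (i + j * cA 0 + k * cD 0) (j * cA 1 + k * cA 2) (j * cA 2 + k * (cA 1 + cA 2)) (by
        rw [← he]; simp only [add_smul, smul_add, mul_smul]; abel)
      obtain ⟨rfl, rfl⟩ := lin_ind _ _ _ _ h0 r1 r2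
      exact ⟨by simpa using r0, rfl, rfl⟩

/-- An element commuting with a configuration swapping `x` and `x * z`. -/
theorem exists_swap (hs : s ∈ Q) (hsp : bf (π s) (π x) = 1) {β : F2} {t : G} (ht : P.Cfg β s t) :
    ∃ h : G, h * z = z * h ∧ h * x * h⁻¹ = x * z ∧ h * t = t * h ∧ ∃ e : ℕ, h ^ 2 ^ e = 1 := by
  obtain ⟨a, b, ha, hax, hb, hbz, rfl, qa, qb, hab, hI⟩ := ht
  have hsz := P.h.es.comm s hs
  have q2 : s * b * s⁻¹ * b⁻¹ ∈ Q := by
    rw [show s * b * s⁻¹ * b⁻¹ = s * (b * s⁻¹ * b⁻¹) by group]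
    exact mul_mem hs (P.h.nor_mem hbz (inv_mem hs))
  have q3 : s * a * s⁻¹ ∈ Q := P.h.nor_mem hsz ha
  have hπ1 : π (s * a * s⁻¹ * (s * b * s⁻¹ * b⁻¹)) = π a + P.dl s b := by
    rw [P.h.π_mul _ q3 _ q2, P.h.π_mul _ (mul_mem hs ha) _ (inv_mem hs), P.h.π_mul _ hs _ ha, P.h.π_inv hs,
      add_comm (π s) (π a), add_assoc (π a), V_add_self, add_zero]
    rfl
  have hαp : bf (π a) (π x) = 0 := (P.comm_x ha).mp hax
  have hδp := P.dl_perp hs hb hbz
  have hax1 : s * a * s⁻¹ * (s * b * s⁻¹ * b⁻¹) * x = x * (s * a * s⁻¹ * (s * b * s⁻¹ * b⁻¹)) :=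
    (P.comm_x (mul_mem q3 q2)).mpr (by rw [hπ1, bf_add_left, hαp, hδp, add_zero])
  have qa1 : qf (π a + P.dl s b) = β := by
    rw [qf_add, qa, qb, hab]; exact (show ∀ β : F2, β + β + β = β by decide) β
  have hab1 : bf (π a + P.dl s b) (P.dl s b) = β := by rw [bf_add_left, hab, bf_self, add_zero]
  have hI1 : Ind (π x) (π a + P.dl s b) (P.dl s b) := fun i j k he => by
    obtain ⟨r0, r1, r2⟩ := hI i j (j + k) (by rw [← he, add_smul, smul_add]; abel)
    exact ⟨r0, r1, by rwa [r1, zero_add] at r2⟩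
  obtain ⟨g, hg, g0, g1, g2⟩ : ∃ g ∈ Om, g.1 (π x) = π x ∧ g.1 (π a + P.dl s b) = π a ∧
      g.1 (P.dl s b) = P.dl s b := by
    have perp : ∀ {v : V}, bf v (π x) = 0 → bf (π x) v = 0 := fun h => by rw [bf_comm, h]
    have hp1 : bf (π a + P.dl s b) (π x) = 0 := by rw [bf_add_left, hαp, hδp, add_zero]
    have fin : ∀ {A B : V} {g k : O8}, g ∈ Om → k ∈ Om → g.1 (π x) = e0 → g.1 (π a + P.dl s b) = A →
        g.1 (P.dl s b) = B → k.1 (π x) = e0 → k.1 (π a) = A → k.1 (P.dl s b) = B →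
        ∃ g ∈ Om, g.1 (π x) = π x ∧ g.1 (π a + P.dl s b) = π a ∧ g.1 (P.dl s b) = P.dl s b := by
      intro A B g k hg hk g0 g1 g2 k0 k1 k2
      have hm : ∀ {v v' w : V}, g.1 v = w → k.1 v' = w → (k⁻¹ * g).1 v = v' := fun {v v' w} e e' => by
        show k.1.symm (g.1 v) = v'
        rw [e, ← e', LinearEquiv.symm_apply_apply]
      exact ⟨k⁻¹ * g, mul_mem (inv_mem hk) hg, hm g0 k0, hm g1 k1, hm g2 k2⟩
    rcases F2_cases β with rfl | rfl
    · obtain ⟨g, hg, g0, g1, g2⟩ := std_triple hI1 P.p_q qa1 qb (perp hp1) (perp hδp) hab1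
      obtain ⟨k, hk, k0, k1, k2⟩ := std_triple hI P.p_q qa qb (perp hαp) (perp hδp) hab
      exact fin hg hk g0 g1 g2 k0 k1 k2
    · obtain ⟨g, hg, g0, g1, g2⟩ := std_pair P.p_q P.p_ne qa1 qb (perp hp1) (perp hδp) hab1
      obtain ⟨k, hk, k0, k1, k2⟩ := std_pair P.p_q P.p_ne qa qb (perp hαp) (perp hδp) hab
      exact fin hg hk g0 g1 g2 k0 k1 k2
  obtain ⟨k, hkz, hkx, hk⟩ := P.pair_conj hs hsp (mul_mem q3 q2) hax1 hb hbz ha hax hb hbz hI hg g0
    (by rw [hπ1]; exact g1) (by rw [g2]; exact Eqp.refl _ _)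
  have h0z : k * s * z = z * (k * s) := Commute.mul_left hkz hsz
  have h0x : k * s * x * (k * s)⁻¹ = x * z := by
    rw [show k * s * x * (k * s)⁻¹ = k * (s * x * s⁻¹) * k⁻¹ by group, P.h.conj_Q hs P.hx,
      if_neg (by rw [hsp]; exact one_ne_zero),
      show k * (x * z) * k⁻¹ = k * x * k⁻¹ * (k * z * k⁻¹) by group, conj_fix_iff.mpr hkx, conj_fix_iff.mpr hkz]
  have h0t : k * s * (a * b) = a * b * (k * s) := conj_fix_iff.mp (by
    rw [show k * s * (a * b) * (k * s)⁻¹ = k * (s * a * s⁻¹ * (s * b * s⁻¹ * b⁻¹) * b) * k⁻¹ by group, hk])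
  obtain ⟨e, m, hm, hn⟩ := Nat.exists_eq_two_pow_mul_odd (orderOf_pos (k * s)).ne'
  refine ⟨(k * s) ^ m, Commute.pow_left h0z m, ?_, Commute.pow_left h0t m, e, ?_⟩
  · have h2 : (k * s) ^ 2 * x * ((k * s) ^ 2)⁻¹ = x := by
      rw [pow_two, show k * s * (k * s) * x * (k * s * (k * s))⁻¹ =
        k * s * (k * s * x * (k * s)⁻¹) * (k * s)⁻¹ by group, h0x,
        show k * s * (x * z) * (k * s)⁻¹ = k * s * x * (k * s)⁻¹ * (k * s * z * (k * s)⁻¹) by group, h0x,
        conj_fix_iff.mpr h0z, mul_assoc, P.h.zz, mul_one]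
    obtain ⟨l, rfl⟩ := hm
    rw [pow_succ', pow_mul]
    have h5 := conj_fix_iff.mpr (Commute.pow_left (conj_fix_iff.mp h2) l)
    generalize ((k * s) ^ 2) ^ l = u at h5 ⊢
    rw [show k * s * u * x * (k * s * u)⁻¹ = k * s * (u * x * u⁻¹) * (k * s)⁻¹ by group, h5, h0x]
  · rw [← pow_mul, mul_comm, ← hn, pow_orderOf_eq_one]

/-- A Sylow 2-subgroup of the centralizer of a configuration lies in `C(z)` and has `z` as its only conjugate of `z`
centralizing it. -/
theorem exists_sylow (hs : s ∈ Q) (hsp : bf (π s) (π x) = 1) {β : F2} {t : G} (ht : P.Cfg β s t) :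
    ∃ T : Sylow 2 ↥(Subgroup.centralizer ({t} : Set G)), (∀ r ∈ T, (r : G) * z = z * r) ∧
      ∀ w, IsConj z w → (∀ r ∈ T, w * (r : G) = r * w) → w = z := by
  classical
  haveI : Fact (Nat.Prime 2) := ⟨Nat.prime_two⟩
  obtain ⟨h, hhz, hhx, hht, e, he⟩ := P.exists_swap hs hsp ht
  have hnorm : Subgroup.zpowers h ≤ Subgroup.normalizer (P.radCent t : Set G) := by
    rw [Subgroup.zpowers_le, Subgroup.mem_normalizer_iff]
    have key : ∀ c : G, c * z = z * c → c * t = t * c → (c * x * c⁻¹ = x * z) → ∀ r ∈ P.radCent t,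
        c * r * c⁻¹ ∈ P.radCent t := by
      rintro c hcz hct hcx r ⟨r1, r2, r3, r4⟩
      have hrxz : r * (x * z) = x * z * r := (Commute.mul_right r2 r1 : Commute r (x * z))
      have hcx' : c * (x * z) * c⁻¹ = x := by
        rw [show c * (x * z) * c⁻¹ = c * x * c⁻¹ * (c * z * c⁻¹) by group, hcx, conj_fix_iff.mpr hcz, mul_assoc,
          P.h.zz, mul_one]
      refine ⟨Commute.mul_left (Commute.mul_left hcz r1) (Commute.inv_left hcz), ?_,
        Commute.mul_left (Commute.mul_left hct r3) (Commute.inv_left hct), fun v hv => ?_⟩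
      · calc c * r * c⁻¹ * x = c * r * c⁻¹ * (c * (x * z) * c⁻¹) := by rw [hcx']
          _ = c * (r * (x * z)) * c⁻¹ := by group
          _ = c * (x * z) * c⁻¹ * (c * r * c⁻¹) := by rw [hrxz]; group
          _ = x * (c * r * c⁻¹) := by rw [hcx']
      · have hcp : (M c).1 (π x) = π x := by rw [← P.h.M_act c hcz x P.hx, hcx, P.h.π_mul_z P.hx]
        obtain ⟨w, rfl⟩ := (M c).1.surjective v
        rw [← hcp, bf_map] at hv
        rw [P.h.M_mul _ _ (Commute.mul_left hcz r1) (Commute.inv_left hcz), P.h.M_mul _ _ hcz r1, P.h.M_inv hcz]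
        show Eqp _ _ ((M c).1 ((M r).1 ((M c).1.symm ((M c).1 w))))
        rw [LinearEquiv.symm_apply_apply]
        have := (r4 w hv).map (M c)
        rwa [hcp] at this
    intro r
    refine ⟨key h hhz hht hhx r, fun hr => ?_⟩
    have hi : h⁻¹ * x * h⁻¹⁻¹ = x * z := by
      have e2 : h * (x * z) * h⁻¹ = x := by
        rw [show h * (x * z) * h⁻¹ = h * x * h⁻¹ * (h * z * h⁻¹) by group, hhx, conj_fix_iff.mpr hhz, mul_assoc,
          P.h.zz, mul_one]
      rw [inv_inv]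
      conv_lhs => arg 1; arg 2; rw [← e2]
      group
    have := key h⁻¹ (Commute.inv_left hhz) (Commute.inv_left hht) hi _ hr
    rwa [show h⁻¹ * (h * r * h⁻¹) * h⁻¹⁻¹ = r by group] at this
  have hzp : IsPGroup 2 ↥(Subgroup.zpowers h) := by
    obtain ⟨f, -, hf⟩ := (Nat.dvd_prime_pow Nat.prime_two).mp (orderOf_dvd_of_pow_eq_one he)
    exact IsPGroup.of_card (n := f) (by rw [Nat.card_zpowers, hf])
  set T0 : Subgroup G := P.radCent t ⊔ Subgroup.zpowers h with hT0
  have hT0p : IsPGroup 2 ↥T0 := (P.radCent_two t).to_sup_of_normal_left' hzp hnorm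
  have hT0C : T0 ≤ Subgroup.centralizer ({z} : Set G) ⊓ Subgroup.centralizer ({t} : Set G) := by
    refine sup_le (fun r hr => ⟨mem_cent.mpr hr.1, mem_cent.mpr hr.2.2.1⟩) ?_
    rw [Subgroup.zpowers_le]
    exact ⟨mem_cent.mpr hhz, mem_cent.mpr hht⟩
  set C := Subgroup.centralizer ({z} : Set G) ⊓ Subgroup.centralizer ({t} : Set G) with hC
  have hpC : IsPGroup 2 ↥(T0.subgroupOf C) := hT0p.comap_of_injective _ (Subgroup.subtype_injective _)
  obtain ⟨T1, hT1⟩ := hpC.exists_le_sylow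
  set T1' : Subgroup ↥(Subgroup.centralizer ({t} : Set G)) :=
    (((T1 : Subgroup ↥C).map C.subtype)).subgroupOf (Subgroup.centralizer ({t} : Set G)) with hT1'
  have hT1z : ∀ r ∈ T1', (r : G) * z = z * r := by
    rintro r ⟨w, -, e'⟩
    have hw := w.2.1
    change (w : G) = (r : G) at e'
    rw [← e']; exact mem_cent.mp hw
  have hmem0 : ∀ r : ↥(Subgroup.centralizer ({t} : Set G)), (r : G) ∈ T0 → r ∈ T1' := fun r hr =>
    ⟨⟨r, hT0C hr⟩, hT1 hr, rfl⟩
  have honly : ∀ w, IsConj z w → (∀ r ∈ T1', w * (r : G) = r * w) → w = z := fun w hw hc =>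
    P.only_z hs hsp ht hhz hhx hw
      (fun r hr => hc ⟨r, mem_cent.mpr hr.2.2.1⟩ (hmem0 _ (Subgroup.mem_sup_left hr)))
      (hc ⟨h, mem_cent.mpr hht⟩ (hmem0 _ (Subgroup.mem_sup_right (Subgroup.mem_zpowers h))))
  have hp1 : IsPGroup 2 ↥T1' := (T1.2.map C.subtype).comap_of_injective _ (Subgroup.subtype_injective _)
  obtain ⟨T, hT⟩ := hp1.exists_le_sylow
  have heq : (T : Subgroup ↥(Subgroup.centralizer ({t} : Set G))) = T1' := by
    by_contra hne
    haveI : Group.IsNilpotent ↥(T : Subgroup ↥(Subgroup.centralizer ({t} : Set G))) := T.2.isNilpotent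
    have hlt : T1'.subgroupOf (T : Subgroup ↥(Subgroup.centralizer ({t} : Set G))) < ⊤ := lt_top_iff_ne_top.mpr
      fun e' => hne (le_antisymm (Subgroup.subgroupOf_eq_top.mp e') hT)
    obtain ⟨⟨n, hnT⟩, hn, hnn⟩ := SetLike.exists_of_lt (Group.normalizerCondition_of_isNilpotent _ hlt)
    have hconj : ∀ r ∈ T1', n⁻¹ * r * n ∈ T1' := fun r hr => by
      have h3 := ((Subgroup.mem_normalizer_iff.mp (inv_mem hn)) ⟨r, hT hr⟩).mp hr
      have h2 : n⁻¹ * r * n⁻¹⁻¹ ∈ T1' := h3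
      rwa [inv_inv] at h2
    have hnz : (n : G) * z = z * n := by
      refine conj_fix_iff.mp (honly _ (isConj_iff.mpr ⟨n, rfl⟩) fun r hr => ?_)
      have h1 := hT1z _ (hconj r hr)
      push_cast at h1
      calc (n : G) * z * (n : G)⁻¹ * r = n * (z * ((n : G)⁻¹ * r * n)) * (n : G)⁻¹ := by group
        _ = n * ((n : G)⁻¹ * r * n * z) * (n : G)⁻¹ := by rw [h1]
        _ = r * (n * z * (n : G)⁻¹) := by group
    have hTC : IsPGroup 2 ↥(((T : Subgroup ↥(Subgroup.centralizer ({t} : Set G))).map (Subgroup.subtype _)).subgroupOf C) :=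
      (T.2.map _).comap_of_injective _ (Subgroup.subtype_injective _)
    have hle : (T1 : Subgroup ↥C) ≤
        ((T : Subgroup ↥(Subgroup.centralizer ({t} : Set G))).map (Subgroup.subtype _)).subgroupOf C := fun w hw =>
      ⟨⟨w, w.2.2⟩, hT ⟨w, hw, rfl⟩, rfl⟩
    have hMT := T1.3 hTC hle
    have hnM : (⟨n, mem_cent.mpr hnz, n.2⟩ : ↥C) ∈
        ((T : Subgroup ↥(Subgroup.centralizer ({t} : Set G))).map (Subgroup.subtype _)).subgroupOf C := ⟨n, hnT, rfl⟩
    rw [hMT] at hnM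
    exact hnn ⟨_, hnM, rfl⟩
  refine ⟨T, fun r hr => hT1z r (heq ▸ hr), fun w hw hc => honly w hw fun r hr => hc r (hT hr)⟩

/-- The second and third types are not conjugate. -/
theorem typ_not_tri (hs : s ∈ Q) (hsp : bf (π s) (π x) = 1) {t t' : G} (ht : P.Typ s t) (ht' : P.Tri s t') :
    ¬ IsConj t t' := by
  classical
  haveI : Fact (Nat.Prime 2) := ⟨Nat.prime_two⟩
  intro hc
  obtain ⟨g, hg⟩ := isConj_iff.mp hc
  obtain ⟨T, hTz, -⟩ := P.exists_sylow hs hsp (P.typ_cfg hs ht)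
  obtain ⟨T', hTz', honly⟩ := P.exists_sylow hs hsp (P.tri_cfg ht')
  subst hg
  -- transport
  let φ : ↥(Subgroup.centralizer ({t} : Set G)) →* ↥(Subgroup.centralizer ({g * t * g⁻¹} : Set G)) :=
    { toFun := fun r => ⟨g * r * g⁻¹, mem_cent.mpr (by
        have := mem_cent.mp r.2
        calc g * r * g⁻¹ * (g * t * g⁻¹) = g * ((r : G) * t) * g⁻¹ := by group
          _ = g * t * g⁻¹ * (g * r * g⁻¹) := by rw [this]; group)⟩
      map_one' := Subtype.ext (by simp)
      map_mul' := fun r r' => Subtype.ext (by simp [mul_assoc]) }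
  obtain ⟨S, hS⟩ := (T.2.map φ).exists_le_sylow
  obtain ⟨c, hcS⟩ := MulAction.exists_smul_eq ↥(Subgroup.centralizer ({g * t * g⁻¹} : Set G)) S T'
  have hφi : Function.Injective φ := fun r r' e => Subtype.ext (by
    have := congrArg Subtype.val e
    simpa [φ] using this)
  have hcard : Nat.card ↥(T' : Subgroup ↥(Subgroup.centralizer ({g * t * g⁻¹} : Set G))) ≤ Nat.card ↥((T : Subgroup ↥(Subgroup.centralizer ({t} : Set G))).map φ) := by
    rw [Subgroup.card_map_of_injective hφi, T.card_eq_multiplicity, T'.card_eq_multiplicity]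
    refine le_of_eq (congrArg (fun n : ℕ => 2 ^ n.factorization 2) ?_)
    let ψ : ↥(Subgroup.centralizer ({t} : Set G)) ≃ ↥(Subgroup.centralizer ({g * t * g⁻¹} : Set G)) :=
      Equiv.ofBijective φ ⟨hφi, fun r => ⟨⟨g⁻¹ * r * g, mem_cent.mpr (by
        have := mem_cent.mp r.2
        calc g⁻¹ * r * g * t = g⁻¹ * ((r : G) * (g * t * g⁻¹)) * g := by group
          _ = t * (g⁻¹ * r * g) := by rw [this]; group)⟩, Subtype.ext (by simp [φ, mul_assoc])⟩⟩
    exact (Nat.card_congr ψ).symm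
  have hSeq : (S : Subgroup ↥(Subgroup.centralizer ({g * t * g⁻¹} : Set G))) = (T : Subgroup ↥(Subgroup.centralizer ({t} : Set G))).map φ :=
    (Subgroup.eq_of_le_of_card_ge hS (by rw [S.card_eq_multiplicity, ← T'.card_eq_multiplicity]; exact hcard)).symm
  -- the transported involution
  set k := (c : G) * g with hk
  have hkt : k * t * k⁻¹ = g * t * g⁻¹ := by
    have := conj_fix_iff.mpr (mem_cent.mp c.2)
    rw [← this, hk]; group
  have hkz : k * z = z * k := by
    refine conj_fix_iff.mp (honly _ (isConj_iff.mpr ⟨k, rfl⟩) fun r hr => ?_)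
    rw [← hcS] at hr
    change r ∈ ((c • S : Sylow 2 ↥(Subgroup.centralizer ({g * t * g⁻¹} : Set G))) : Subgroup ↥(Subgroup.centralizer ({g * t * g⁻¹} : Set G))) at hr
    rw [Sylow.coe_subgroup_smul] at hr
    obtain ⟨r0, hr0, rfl⟩ := hr
    rw [hSeq] at hr0
    obtain ⟨r1, hr1, rfl⟩ := hr0
    have h1 := hTz r1 hr1
    show k * z * k⁻¹ * ((c : G) * (g * r1 * g⁻¹) * (c : G)⁻¹) = (c : G) * (g * r1 * g⁻¹) * (c : G)⁻¹ * (k * z * k⁻¹)
    calc k * z * k⁻¹ * ((c : G) * (g * r1 * g⁻¹) * (c : G)⁻¹) = k * (z * r1) * k⁻¹ := by rw [hk]; group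
      _ = k * (r1 * z) * k⁻¹ := by rw [h1]
      _ = _ := by rw [hk]; group
  -- the type
  obtain ⟨a, b, ha, hax, hb, hbz, rfl, qa, qb, hab⟩ := ht
  obtain ⟨a', b', ha', hax', hb', hbz', he', qa', qb', hab', -⟩ := ht'
  have hM : M k * M (a * b) = M (g * (a * b) * g⁻¹) * M k := by
    rw [← P.h.M_mul _ _ hkz (Commute.mul_left (P.h.es.comm a ha) hbz),
      ← P.h.M_mul _ _ (by rw [he']; exact Commute.mul_left (P.h.es.comm a' ha') hbz') hkz, ← hkt]
    congr 1
    group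
  rw [he', P.M_ab ha hbz, P.M_ab ha' hbz'] at hM
  have h2 : (M k).1 ((M b).1 (π s)) = (M b').1 ((M k).1 (π s)) :=
    LinearEquiv.congr_fun (congrArg Subtype.val hM) (π s)
  have hd : P.dl s b = π s + (M b).1 (π s) := P.dl_eq hs hbz
  have h3 : qf ((M b').1 ((M k).1 (π s)) + (M k).1 (π s)) = 1 := by
    rw [← h2, ← map_add, (M k).2, add_comm, ← hd, qb]
  rw [P.M_full hs hsp hb' hbz', qb', mul_zero, add_zero] at h3
  generalize (M k).1 (π s) = v at h3
  generalize bf v (P.dl s b') = i at h3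
  generalize bf v (π x) = j at h3
  rw [show v + i • π x + j • P.dl s b' + v = v + v + (i • π x + j • P.dl s b') by abel, V_add_self, zero_add,
    qf_add, qf_smul, qf_smul, P.p_q, qb', bf_smul_left, bf_smul_right, bf_comm (π x), P.dl_perp hs hb' hbz'] at h3
  simp only [mul_zero, add_zero] at h3
  exact zero_ne_one h3

end Pr

end CfsgLib.ConwayType
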